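import Cfsg.Agent.H208.XR.TwoRank
import Cfsg.Agent.H682.KB.Pair
import Cfsg.Agent.H603.AP.Height

/-!
# The elements of order `p` of the torus model modulo `p ^ a` (S4791, S4927; helper208)

* `up` : functionals modulo `p` as functionals modulo `p ^ a`; `ModelN.down` : the model modulo `p`;
* `X_up_red` : `X (up c) = X c ^ p ^ (a - 1)`;
* `ms_of_conj` : conjugate elements have the same root values; `not_conj_of_card` ;
* `rank_line` : the rank of the principal block of the centralizer of an element of order `p`;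
* `x0_eq_kJ_of_two` : heights.
-/

set_option autoImplicit false
set_option linter.unusedSectionVars false

namespace Cfsg.Agent.H208.XR

open CoxeterSystem Cfsg Cfsg.Lie Cfsg.Lie.ChevalleyDatum
open Cfsg.Agent.ChevalleyStructure Cfsg.Agent.ChevalleyStructure.Elts Cfsg.Agent.ChevalleyStructure.CoxeterGeom
  Cfsg.Agent.ChevalleyStructure.CoxeterGeomTypes Cfsg.Agent.ChevalleyStructure.NPerm
open Cfsg.Agent.Tits.Roots Cfsg.Agent.Tits.Core Cfsg.Agent.Nodes Cfsg.Agent.Nodes.Reps Cfsg.Agent.Nodes.BNOf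
  Cfsg.Agent.Nodes.RGDChev Cfsg.Agent.Nodes.Bruhat
open Cfsg.Agent.H129.TorusChar Cfsg.Agent.H129.WData Cfsg.Agent.H210.EL Cfsg.Agent.H440.TD4
open Cfsg.Agent.H682.KB (Q4 add4 sm4 mx mul4 ev ev_add ev_sm ev_mul ev_one ev_zero ev_int vv EigQ isUnit_ev ev_x Pr)
open Cfsg.Agent.H994.KE (isRoot_rep' exists_perm)
open Cfsg.Agent.H944.RootVals (ms)
open Cfsg.Agent.H674.XZ Cfsg.Agent.H508.XR

universe u v

section up

variable {p a l : ℕ} [hpp : Fact p.Prime]

theorem pow_mul_eq_zero (ha : a ≠ 0) (m : ℤ) :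
    ((p ^ (a - 1) : ℕ) : ZMod (p ^ a)) * (m : ZMod (p ^ a)) = 0 ↔ (m : ZMod (p ^ 1)) = 0 := by
  have h1 : ((p ^ (a - 1) : ℕ) : ZMod (p ^ a)) * (m : ZMod (p ^ a)) = (((p : ℤ) ^ (a - 1) * m : ℤ) : ZMod (p ^ a)) := by
    push_cast
    rfl
  rw [h1, ZMod.intCast_zmod_eq_zero_iff_dvd, ZMod.intCast_zmod_eq_zero_iff_dvd]
  have h2 : ((p ^ a : ℕ) : ℤ) = (p : ℤ) ^ (a - 1) * ((p ^ 1 : ℕ) : ℤ) := by
    push_cast
    rw [pow_one, ← pow_succ, Nat.sub_add_cancel (Nat.one_le_iff_ne_zero.2 ha)]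
  rw [h2]
  exact mul_dvd_mul_iff_left (pow_ne_zero _ (by exact_mod_cast hpp.out.ne_zero))

/-- functionals modulo `p` as functionals modulo `p ^ a` -/
def up (p a : ℕ) (c : Fin l → ZMod (p ^ 1)) : Fin l → ZMod (p ^ a) :=
  fun n => ((p ^ (a - 1) : ℕ) : ZMod (p ^ a)) * (((c n).val : ℤ) : ZMod (p ^ a))

/-- reduction modulo `p` -/
def red (p a : ℕ) (ha : a ≠ 0) (c : Fin l → ZMod (p ^ a)) : Fin l → ZMod (p ^ 1) :=
  fun n => ZMod.castHom (pow_dvd_pow p (Nat.one_le_iff_ne_zero.2 ha)) (ZMod (p ^ 1)) (c n)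

theorem lam_up (c : Fin l → ZMod (p ^ 1)) (x : Fin l → ℤ) :
    lam (up p a c) x = ((p ^ (a - 1) : ℕ) : ZMod (p ^ a)) * ((∑ n, x n * ((c n).val : ℤ) : ℤ) : ZMod (p ^ a)) := by
  unfold lam up
  rw [Int.cast_sum, Finset.mul_sum]
  refine Finset.sum_congr rfl fun n _ => ?_
  push_cast
  ring

theorem lam_val (c : Fin l → ZMod (p ^ 1)) (x : Fin l → ℤ) :
    lam c x = ((∑ n, x n * ((c n).val : ℤ) : ℤ) : ZMod (p ^ 1)) := by
  have hNz : NeZero (p ^ 1) := ⟨pow_ne_zero _ hpp.out.ne_zero⟩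
  unfold lam
  rw [Int.cast_sum]
  refine Finset.sum_congr rfl fun n _ => ?_
  push_cast
  rw [ZMod.natCast_zmod_val]

/-- relations between values -/
theorem lam_up_iff (ha : a ≠ 0) (k : ℕ) (c c' : Fin l → ZMod (p ^ 1)) (x x' : Fin l → ℤ) :
    lam (up p a c) x = (k : ZMod (p ^ a)) * lam (up p a c') x' ↔ lam c x = (k : ZMod (p ^ 1)) * lam c' x' := by
  rw [lam_up, lam_up, lam_val, lam_val, ← sub_eq_zero]
  conv_rhs => rw [← sub_eq_zero]
  have h := pow_mul_eq_zero (p := p) ha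
    ((∑ n, x n * ((c n).val : ℤ) : ℤ) - (k : ℤ) * (∑ n, x' n * ((c' n).val : ℤ) : ℤ))
  rw [show ((p ^ (a - 1) : ℕ) : ZMod (p ^ a)) * ((∑ n, x n * ((c n).val : ℤ) : ℤ) : ZMod (p ^ a)) -
      (k : ZMod (p ^ a)) * (((p ^ (a - 1) : ℕ) : ZMod (p ^ a)) * ((∑ n, x' n * ((c' n).val : ℤ) : ℤ) : ZMod (p ^ a))) =
      ((p ^ (a - 1) : ℕ) : ZMod (p ^ a)) * (((∑ n, x n * ((c n).val : ℤ) : ℤ) -
        (k : ℤ) * (∑ n, x' n * ((c' n).val : ℤ) : ℤ) : ℤ) : ZMod (p ^ a)) by push_cast; ring, h]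
  push_cast
  rfl

theorem lam_up_eq_iff (ha : a ≠ 0) (c c' : Fin l → ZMod (p ^ 1)) (x x' : Fin l → ℤ) :
    lam (up p a c) x = lam (up p a c') x' ↔ lam c x = lam c' x' := by
  have h := lam_up_iff ha 1 c c' x x'
  rwa [Nat.cast_one, one_mul, Nat.cast_one, one_mul] at h

theorem lam_up_eq_zero (ha : a ≠ 0) (c : Fin l → ZMod (p ^ 1)) (x : Fin l → ℤ) :
    lam (up p a c) x = 0 ↔ lam c x = 0 := by
  have h := lam_up_iff ha 0 c c x x
  rwa [Nat.cast_zero, zero_mul, Nat.cast_zero, zero_mul] at h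

theorem up_add (ha : a ≠ 0) (c c' : Fin l → ZMod (p ^ 1)) : up p a (c + c') = up p a c + up p a c' := by
  have hNz : NeZero (p ^ 1) := ⟨pow_ne_zero _ hpp.out.ne_zero⟩
  funext n
  unfold up
  rw [Pi.add_apply, ← sub_eq_zero]
  have h := (pow_mul_eq_zero (p := p) ha (((c n + c' n).val : ℤ) - ((c n).val : ℤ) - ((c' n).val : ℤ))).2 (by
    push_cast
    rw [ZMod.natCast_zmod_val, ZMod.natCast_zmod_val, ZMod.natCast_zmod_val]
    ring)
  rw [← h, Pi.add_apply]
  push_cast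
  ring

theorem up_eq_zero (ha : a ≠ 0) {c : Fin l → ZMod (p ^ 1)} (h : up p a c = 0) : c = 0 := by
  have hNz : NeZero (p ^ 1) := ⟨pow_ne_zero _ hpp.out.ne_zero⟩
  funext n
  have h1 := (pow_mul_eq_zero (p := p) ha ((c n).val : ℤ)).1 (congrFun h n)
  rw [Int.cast_natCast, ZMod.natCast_zmod_val] at h1
  exact h1

theorem up_red (ha : a ≠ 0) (c : Fin l → ZMod (p ^ a)) :
    up p a (red p a ha c) = ((p ^ (a - 1) : ℕ) : ZMod (p ^ a)) • c := by
  have hNz : NeZero (p ^ 1) := ⟨pow_ne_zero _ hpp.out.ne_zero⟩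
  have hNz' : NeZero (p ^ a) := ⟨pow_ne_zero _ hpp.out.ne_zero⟩
  funext n
  unfold up red
  rw [Pi.smul_apply, smul_eq_mul, ← sub_eq_zero]
  have h := (pow_mul_eq_zero (p := p) ha (((ZMod.castHom (pow_dvd_pow p (Nat.one_le_iff_ne_zero.2 ha)) (ZMod (p ^ 1))
    (c n)).val : ℤ) - ((c n).val : ℤ))).2 (by
    push_cast
    rw [ZMod.natCast_zmod_val]
    conv_lhs => arg 1; rw [← ZMod.natCast_zmod_val (c n), map_natCast]
    rw [sub_self])
  rw [← h]
  push_cast
  rw [ZMod.natCast_zmod_val (c n)]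
  ring

theorem red_smul_nat (ha : a ≠ 0) (i : ℕ) (c : Fin l → ZMod (p ^ a)) :
    red p a ha ((i : ZMod (p ^ a)) • c) = fun n => (i : ZMod (p ^ 1)) * red p a ha c n := by
  funext n
  unfold red
  rw [Pi.smul_apply, smul_eq_mul, map_mul, map_natCast]

theorem red_vv (ha : a ≠ 0) (Q : ℕ) (B : List Q4) :
    red p a ha (vv (Q : ZMod (p ^ a)) B : Fin l → ZMod (p ^ a)) = vv (Q : ZMod (p ^ 1)) B := by
  funext n
  unfold red vv ev
  simp only [map_add, map_mul, map_pow, map_intCast, map_natCast]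

end up

section model

variable {D : ChevalleyDatum} {l : ℕ} {M : CoxeterMatrix (Fin l)} {hp : IsType D l M} {p a Q : ℕ} [hpp : Fact p.Prime]
  {g : (Fin l → ℤ) ≃+ (Fin l → ℤ)} {w : M.Group} {G : Type v} [Group G] {X : (Fin l → ZMod (p ^ a)) → G}

theorem up_mem_iff (ha : a ≠ 0) {c : Fin l → ZMod (p ^ 1)} : up p a c ∈ Lam hp (p ^ a) Q g w ↔ c ∈ Lam hp (p ^ 1) Q g w :=
  forall_congr' fun x => lam_up_iff ha Q c c _ _

/-- **The model modulo `p`.** -/
theorem ModelN.down (ha : a ≠ 0) (H : ModelN hp (p ^ a) Q g w X) :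
    ModelN hp (p ^ 1) Q g w (fun c => X (up p a c)) where
  add c hc c' hc' := by
    rw [up_add ha]
    exact H.add _ ((up_mem_iff ha).2 hc) _ ((up_mem_iff ha).2 hc')
  inj c hc h := up_eq_zero ha (H.inj _ ((up_mem_iff ha).2 hc) h)
  act v hv := by
    obtain ⟨m, hm⟩ := H.act v hv
    exact ⟨m, fun c hc c' hc' h => hm _ ((up_mem_iff ha).2 hc) _ ((up_mem_iff ha).2 hc') fun x =>
      (lam_up_eq_iff ha _ _ _ _).2 (h x)⟩
  fus c c' hc hc' h hh := by
    obtain ⟨w', hw'⟩ := H.fus (fun i => up p a (c i)) (fun i => up p a (c' i)) (fun i => (up_mem_iff ha).2 (hc i))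
      (fun i => (up_mem_iff ha).2 (hc' i)) h hh
    exact ⟨w', fun i x => (lam_up_eq_iff ha _ _ _ _).1 (hw' i x)⟩
  reg w' c hc h := H.reg w' (up p a c) (fun s hs => hc s ((lam_up_eq_zero ha _ _).1 hs)) fun x =>
    (lam_up_eq_iff ha _ _ _ _).2 (h x)
  cen c hc c' hc' h k hk := H.cen _ ((up_mem_iff ha).2 hc) _ ((up_mem_iff ha).2 hc') (fun s hs =>
    (lam_up_eq_zero ha _ _).2 (h s ((lam_up_eq_zero ha _ _).1 hs))) k hk
  tw := H.tw

/-- transport to an isomorphic group -/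
theorem ModelN.map {G' : Type*} [Group G'] (f : G ≃* G') (H : ModelN hp (p ^ a) Q g w X) :
    ModelN hp (p ^ a) Q g w (fun c => f (X c)) where
  add c hc c' hc' := by rw [H.add c hc c' hc', map_mul]
  inj c hc h := H.inj c hc (by rwa [map_eq_one_iff f f.injective] at h)
  act v hv := by
    obtain ⟨m, hm⟩ := H.act v hv
    exact ⟨f m, fun c hc c' hc' h => by rw [← map_inv, ← map_mul, ← map_mul, hm c hc c' hc' h]⟩
  fus c c' hc hc' h hh := H.fus c c' hc hc' (f.symm h) fun i => by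
    apply f.injective
    rw [map_mul, map_mul, map_inv, f.apply_symm_apply, hh i]
  reg := H.reg
  cen c hc c' hc' h k hk := by
    have h1 := H.cen c hc c' hc' h (f.symm k) (by
      apply f.injective
      rw [map_mul, map_mul, f.apply_symm_apply, hk])
    have h2 := congrArg f h1
    rwa [map_mul, map_mul, f.apply_symm_apply] at h2
  tw := H.tw

variable (H : ModelN hp (p ^ a) Q g w X)

include H in
theorem X_up_red (ha : a ≠ 0) {c : Fin l → ZMod (p ^ a)} (hc : c ∈ Lam hp (p ^ a) Q g w) :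
    X (up p a (red p a ha c)) = X c ^ p ^ (a - 1) := by
  rw [up_red ha, X_nsmul H hc]

theorem red_mem (ha : a ≠ 0) {c : Fin l → ZMod (p ^ a)} (hc : c ∈ Lam hp (p ^ a) Q g w) :
    red p a ha c ∈ Lam hp (p ^ 1) Q g w := by
  rw [← up_mem_iff (a := a) ha, up_red ha]
  exact Lam.smul hp _ hc

include H in
/-- the order of an element with a root value (or coordinate) which is a unit -/
theorem orderOf_X {c : Fin l → ZMod (p ^ a)} (hc : c ∈ Lam hp (p ^ a) Q g w) {x : Fin l → ℤ} (hx : IsUnit (lam c x)) :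
    orderOf (X c) = p ^ a := by
  apply Nat.dvd_antisymm
  · apply orderOf_dvd_of_pow_eq_one
    rw [← X_nsmul H hc, ZMod.natCast_self, zero_smul, X_zero H]
  · have h1 := pow_orderOf_eq_one (X c)
    rw [← X_nsmul H hc] at h1
    have h2 := H.inj _ (Lam.smul hp _ hc) h1
    have h3 : lam (((orderOf (X c) : ℕ) : ZMod (p ^ a)) • c) x = 0 := by
      rw [h2]
      unfold lam
      simp
    rw [lam_smul'] at h3
    exact (ZMod.natCast_eq_zero_iff _ _).1 ((hx.mul_left_eq_zero).1 h3)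

include H in
/-- conjugate elements have the same root values -/
theorem exists_of_conj {c c' : Fin l → ZMod (p ^ a)} (hc : c ∈ Lam hp (p ^ a) Q g w) (hc' : c' ∈ Lam hp (p ^ a) Q g w)
    (h : IsConj (X c) (X c')) : ∃ π : Equiv.Perm (Fin D.nroots), ∀ s, lam c' (vec D l (π s)) = lam c (vec D l s) := by
  obtain ⟨k, hk⟩ := isConj_iff.1 h
  obtain ⟨w', hw'⟩ := H.fus (ι := Unit) (fun _ => c) (fun _ => c') (fun _ => hc) (fun _ => hc') k (fun _ => hk)
  obtain ⟨π, hπ⟩ := exists_perm hp w'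
  exact ⟨π, fun s => by rw [hπ, hw' ()]⟩

include H in
theorem ms_of_conj {c c' : Fin l → ZMod (p ^ a)} (hc : c ∈ Lam hp (p ^ a) Q g w) (hc' : c' ∈ Lam hp (p ^ a) Q g w)
    (h : IsConj (X c) (X c')) : ms D l c = ms D l c' := by
  obtain ⟨π, hπ⟩ := exists_of_conj H hc hc' h
  unfold ms
  have h1 : ∀ (c : Fin l → ZMod (p ^ a)) (s : Fin D.nroots), (∑ i, ((vec D l s i : ℤ) : ZMod (p ^ a)) * c i) =
      lam c (vec D l s) := fun c s => rfl
  have h2 : Multiset.map (fun s : Fin D.nroots => lam c (vec D l s)) Finset.univ.val =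
      Multiset.map (fun s : Fin D.nroots => lam c' (vec D l s)) Finset.univ.val := by
    have h3 : (fun s : Fin D.nroots => lam c (vec D l s)) = (fun s : Fin D.nroots => lam c' (vec D l s)) ∘ π := by
      funext s
      exact (hπ s).symm
    rw [h3, ← Multiset.map_map]
    congr 1
    have h4 := congrArg Finset.val (Finset.map_univ_equiv π)
    rwa [Finset.map_val] at h4
  exact h2

include H in
/-- elements with different numbers of trivial roots are not conjugate -/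
theorem not_conj_of_card {c c' : Fin l → ZMod (p ^ a)} (hc : c ∈ Lam hp (p ^ a) Q g w)
    (hc' : c' ∈ Lam hp (p ^ a) Q g w) {n : ℕ} (h1 : (Finset.univ.filter fun s : Fin D.nroots => lam c (vec D l s) = 0).card ≤ n)
    (h2 : n < (Finset.univ.filter fun s : Fin D.nroots => lam c' (vec D l s) = 0).card) : ¬ IsConj (X c) (X c') := by
  intro h
  obtain ⟨π, hπ⟩ := exists_of_conj H hc hc' h
  have h3 : (Finset.univ.filter fun s : Fin D.nroots => lam c' (vec D l s) = 0).card ≤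
      (Finset.univ.filter fun s : Fin D.nroots => lam c (vec D l s) = 0).card := by
    refine Finset.card_le_card_of_injOn (fun s => π.symm s) ?_ (fun _ _ _ _ h => π.symm.injective h)
    intro s hs
    rw [Finset.mem_coe, Finset.mem_filter] at hs ⊢
    refine ⟨Finset.mem_univ _, ?_⟩
    show lam c (vec D l (π.symm s)) = 0
    rw [← hπ, π.apply_symm_apply]
    exact hs.2
  omega

end model

end Cfsg.Agent.H208.XR
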