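import Cfsg.Agent.H208.XR.TwoRank
import Cfsg.Agent.H682.KB.Data

/-!
# `E₈`, `d = 5, 8, 10, 12`: the data of the eigenspaces (S4791, S4927; helper208)

Two roots `s₁`, `s₂` which generate the root lattice over `ℤ[w]`, the dual eigenvectors `V₁`, `V₂`, the kernels `R` of the roots, the
forms `(x, wᵏ y)`, and the numbers of roots in the orbits.
-/

set_option autoImplicit false
set_option maxRecDepth 100000
set_option maxHeartbeats 8000000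

namespace Cfsg.Agent.H208.XR

open Cfsg Cfsg.Lie Cfsg.Lie.ChevalleyDatum
open Cfsg.Agent.H129.WData Cfsg.Agent.H210.EL Cfsg.Agent.Nodes.RGDChev
open Cfsg.Agent.ChevalleyStructure.CoxeterGeom Cfsg.Agent.ChevalleyStructure.CoxeterGeomTypes
open Cfsg.Agent.H682.KB (Q4 mul4 EigQ mt Am)

/-- a root of `E₈` -/
def sx (n : ℕ) (h : n < chevE8.nroots := by decide +kernel) : Fin chevE8.nroots := ⟨n, h⟩

theorem Am_symm : ∀ i j, Am i j = Am j i := by decide +kernel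

theorem Am_two : ∀ i, Am i i = 2 := by decide +kernel

/-- the first root -/
abbrev s₁ : Fin chevE8.nroots := sx 0

namespace D5

/-- the relation -/
def P : Q4 := (-1, -1, -1, -1)

/-- the conjugates -/
def C : List (Q4 × Q4 × Q4) := [((0, 0, 1, 0), (-1, -1, -1, -1), (0, 1, 0, 0)), ((0, 0, 0, 1), (0, 1, 0, 0), (-1, -1, -1, -1)), ((-1, -1, -1, -1), (0, 0, 0, 1), (0, 0, 1, 0))]

def V₁ : List Q4 := [(-1, -1, 0, 0), (0, 1, 0, 0), (1, 0, 0, 0), (0, 0, 1, 0), (-1, -1, -2, -1), (1, 1, 1, 2), (0, 0, 0, -1), (-1, 0, 0, 0)]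

def V₂ : List Q4 := [(0, 0, -1, -1), (-1, -1, -1, 0), (1, 1, 1, 2), (0, -1, 0, -1), (0, 1, 1, 0), (0, 0, -1, 0), (-1, 0, 0, 0), (1, 0, 0, 0)]

/-- the root kernels -/
def R : List (Q4 × Q4) := [((1, 0, 0, 0), (0, 0, 0, 0)), ((0, 0, 0, 0), (1, 0, 0, 0)), ((1, 1, 1, 1), (0, 0, -1, 0)), ((0, 0, -1, 0), (0, 1, 0, 0)), ((1, 1, 0, 0), (0, 0, 0, 1)), ((0, 0, -1, -1), (0, 0, 1, 0)), ((0, -1, 0, 0), (1, 1, 0, 0)), ((0, 0, 1, 0), (0, -1, -1, -1)), ((0, -1, -1, 0), (1, 1, 1, 0)), ((1, 1, 1, 0), (-1, -1, -1, 0)), ((1, 0, 0, -1), (0, 0, 1, 1)), ((0, 0, 1, 1), (1, 0, -1, 0))]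

def B1 : Mat 8 := mt [[0, 1, 0, 0, -1, 1, -1, 1], [-1, 0, 1, 0, 0, 0, 0, -1], [0, -1, -1, 1, 1, -1, 0, 0], [0, 1, 0, -1, 0, 0, 1, 0], [1, -1, 0, 0, 0, 1, -1, 0], [0, 0, 0, 1, -1, -1, 1, 0], [-1, 0, 1, -1, 1, 0, -1, 1], [0, 0, -1, 1, -1, 1, 0, -1]]

def B2 : Mat 8 := mt [[-1, 0, 0, 1, -1, 0, 1, -1], [0, -1, 0, 0, 1, -1, 1, 0], [1, 0, 0, -1, 0, 1, 0, 0], [-1, 0, 1, 0, 0, 0, -1, 0], [1, 0, -1, 1, -1, 0, 0, 1], [-1, 1, 0, -1, 1, 0, 0, 0], [1, -1, -1, 1, 0, 0, 0, -1], [0, 1, 1, -1, 0, -1, 1, 0]]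

def B3 : Mat 8 := mt [[-1, 0, 1, -1, 1, -1, 1, 0], [0, -1, 0, 0, 0, 1, -1, 1], [0, 0, 0, 1, -1, 0, -1, 1], [1, 0, -1, 0, 1, -1, 1, -1], [-1, 1, 0, 0, -1, 1, 0, 0], [0, -1, 1, 0, 0, 0, 0, -1], [1, 1, 0, -1, 0, 0, 0, 1], [-1, 0, 0, 0, 1, 0, -1, 0]]

def BB : Fin 4 → Mat 8 := ![Am, B1, B2, B3]

theorem eV₁ : EigQ P (hd H682.KB.D5.cw) (0, 1, 0, 0) V₁ := by decide +kernel

theorem eV₂ : EigQ P (hd H682.KB.D5.cw) (0, 1, 0, 0) V₂ := by decide +kernel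

theorem h11 : dq (vec chevE8 8 s₁) V₁ = (1, 0, 0, 0) := by decide +kernel

theorem h12 : dq (vec chevE8 8 s₁) V₂ = (0, 0, 0, 0) := by decide +kernel

theorem h21 : dq (vec chevE8 8 (sx 1)) V₁ = (0, 0, 0, 0) := by decide +kernel

theorem h22 : dq (vec chevE8 8 (sx 1)) V₂ = (1, 0, 0, 0) := by decide +kernel

theorem hR : ∀ s : Fin chevE8.nroots, (okU P C (dq (vec chevE8 8 s) V₁) = true ∨ okU P C (dq (vec chevE8 8 s) V₂) = true) ∧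
    ∃ ρ ∈ R, mul4 P (dq (vec chevE8 8 s) V₁) ρ.2 = mul4 P (dq (vec chevE8 8 s) V₂) ρ.1 := by decide +kernel

theorem hRu : ∀ ρ ∈ R, okU P C ρ.1 = true ∨ okU P C ρ.2 = true := by decide +kernel

theorem hB : ∀ (k : Fin 3) (i m : Fin 8), BB k.succ i m = ∑ j, BB k.castSucc i j * hd H682.KB.D5.cw m j := by decide +kernel

theorem hn1 : (Finset.univ.filter fun s : Fin chevE8.nroots => ∀ k : Fin 4, bil (BB k) (vec chevE8 8 s) (vec chevE8 8 s) =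
    bil (BB k) (vec chevE8 8 s₁) (vec chevE8 8 s₁)).card ≤ 120 := by decide +kernel

theorem hn2 : (Finset.univ.filter fun s : Fin chevE8.nroots => ∀ k : Fin 4, bil (BB k) (vec chevE8 8 s) (vec chevE8 8 s) =
    bil (BB k) (vec chevE8 8 (sx 1)) (vec chevE8 8 (sx 1)) ∧ bil (BB k) (vec chevE8 8 s) (vec chevE8 8 s₁) =
    bil (BB k) (vec chevE8 8 (sx 1)) (vec chevE8 8 s₁)).card ≤ 5 := by decide +kernel

theorem cenB : ∀ s : Fin chevE8.nroots, dq (vec chevE8 8 s) H682.KB.D5.B = (0, 0, 0, 0) ∨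
    okU P C (dq (vec chevE8 8 s) H682.KB.D5.B) = true := by decide +kernel

theorem cardB : 0 < (Finset.univ.filter fun s : Fin chevE8.nroots =>
    dq (vec chevE8 8 s) H682.KB.D5.B = (0, 0, 0, 0)).card := by decide +kernel

end D5

namespace D8

/-- the relation -/
def P : Q4 := (-1, 0, 0, 0)

/-- the conjugates -/
def C : List (Q4 × Q4 × Q4) := [((0, 0, 0, 1), (0, 0, -1, 0), (0, 1, 0, 0)), ((0, -1, 0, 0), (0, 0, 1, 0), (0, 0, 0, -1)), ((0, 0, 0, -1), (0, 0, -1, 0), (0, -1, 0, 0))]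

def V₁ : List Q4 := [(-1, 0, -1, -1), (1, 0, -1, -1), (0, 0, 0, 1), (0, 0, 1, 0), (0, 1, 0, 0), (0, -1, -1, 1), (0, -1, 1, -1), (-1, 1, 0, 0)]

def V₂ : List Q4 := [(1, 1, 0, 0), (0, 1, 2, 1), (0, -1, 0, -1), (-1, 0, -1, 0), (0, -1, 0, 1), (1, 1, 0, -1), (0, 0, 0, 0), (0, 0, 0, 0)]

/-- the root kernels -/
def R : List (Q4 × Q4) := [((1, 0, 0, 0), (0, 0, 0, 0)), ((0, -1, 0, 0), (1, 1, 0, -1)), ((0, 0, 0, 0), (1, 0, 0, 0)), ((0, 0, 1, 0), (0, 0, -1, 0)), ((0, 0, 1, 1), (0, -1, -1, -1)), ((1, 0, 0, -1), (0, 1, 1, 1)), ((1, 0, 0, 0), (0, 0, 1, 0)), ((1, 0, 1, 0), (-1, 0, 0, 0)), ((1, 1, 1, 0), (-1, -1, 0, 1)), ((0, 0, -1, 0), (1, 1, 0, 0)), ((-1, 0, 0, 0), (1, 0, 0, -1)), ((-1, 1, 1, 0), (0, -1, -1, 0)), ((0, -1, 0, 1), (1, 0, -1, -1)), ((-1, -1, 1, 0), (1, 0, -1, -1)), ((1, -1, 0, -1), (0, 1, 1, 0)), ((1, -1, -1, 0),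 (1, 1, 1, 0)), ((0, 0, 2, 0), (-1, -1, -1, 0)), ((-1, -1, -1, 0), (2, 1, 0, -1))]

def B1 : Mat 8 := mt [[0, 0, 1, -1, 0, 1, 0, -1], [1, 1, -1, 0, -1, 1, 0, 0], [0, -1, -1, 2, -1, 0, 0, 0], [0, 0, 0, -1, 2, -1, 0, 0], [-1, 1, 1, 0, -1, 0, 0, 0], [0, -1, 0, 0, 0, 0, 1, 0], [1, 0, 0, 0, 0, 0, -1, 1], [-1, 0, 0, 0, 0, 1, -1, 0]]

def B2 : Mat 8 := mt [[0, -1, 0, 1, -1, 0, 1, 0], [1, 0, 0, -1, 0, 1, 0, 0], [0, 0, 0, -1, 2, -1, 0, 0], [-1, 1, 1, 0, -1, 0, 0, 0], [1, 0, -2, 1, 0, 0, 0, 0], [0, -1, 1, 0, 0, 0, -1, 1], [-1, 0, 0, 0, 0, 1, 0, -1], [0, 0, 0, 0, 0, -1, 1, 0]]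

def B3 : Mat 8 := mt [[0, -1, 0, 0, 1, 0, -1, 1], [0, -1, 1, 0, -1, 1, 0, 0], [-1, 1, 1, 0, -1, 0, 0, 0], [1, 0, -2, 1, 0, 0, 0, 0], [0, 1, 1, -2, 1, 0, 0, 0], [-1, -1, 0, 1, 0, 0, 0, -1], [0, 0, 0, 0, 0, -1, 1, 1], [1, 0, 0, 0, 0, 0, -1, 0]]

def BB : Fin 4 → Mat 8 := ![Am, B1, B2, B3]

theorem eV₁ : EigQ P (hd H682.KB.D8.cw) (0, 1, 0, 0) V₁ := by decide +kernel

theorem eV₂ : EigQ P (hd H682.KB.D8.cw) (0, 1, 0, 0) V₂ := by decide +kernel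

theorem h11 : dq (vec chevE8 8 s₁) V₁ = (1, 0, 0, 0) := by decide +kernel

theorem h12 : dq (vec chevE8 8 s₁) V₂ = (0, 0, 0, 0) := by decide +kernel

theorem h21 : dq (vec chevE8 8 (sx 4)) V₁ = (0, 0, 0, 0) := by decide +kernel

theorem h22 : dq (vec chevE8 8 (sx 4)) V₂ = (1, 0, 0, 0) := by decide +kernel

theorem hR : ∀ s : Fin chevE8.nroots, (okU P C (dq (vec chevE8 8 s) V₁) = true ∨ okU P C (dq (vec chevE8 8 s) V₂) = true) ∧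
    ∃ ρ ∈ R, mul4 P (dq (vec chevE8 8 s) V₁) ρ.2 = mul4 P (dq (vec chevE8 8 s) V₂) ρ.1 := by decide +kernel

theorem hRu : ∀ ρ ∈ R, okU P C ρ.1 = true ∨ okU P C ρ.2 = true := by decide +kernel

theorem hB : ∀ (k : Fin 3) (i m : Fin 8), BB k.succ i m = ∑ j, BB k.castSucc i j * hd H682.KB.D8.cw m j := by decide +kernel

theorem hn1 : (Finset.univ.filter fun s : Fin chevE8.nroots => ∀ k : Fin 4, bil (BB k) (vec chevE8 8 s) (vec chevE8 8 s) =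
    bil (BB k) (vec chevE8 8 s₁) (vec chevE8 8 s₁)).card ≤ 48 := by decide +kernel

theorem hn2 : (Finset.univ.filter fun s : Fin chevE8.nroots => ∀ k : Fin 4, bil (BB k) (vec chevE8 8 s) (vec chevE8 8 s) =
    bil (BB k) (vec chevE8 8 (sx 4)) (vec chevE8 8 (sx 4)) ∧ bil (BB k) (vec chevE8 8 s) (vec chevE8 8 s₁) =
    bil (BB k) (vec chevE8 8 (sx 4)) (vec chevE8 8 s₁)).card ≤ 4 := by decide +kernel

theorem cenB : ∀ s : Fin chevE8.nroots, dq (vec chevE8 8 s) H682.KB.D8.B = (0, 0, 0, 0) ∨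
    okU P C (dq (vec chevE8 8 s) H682.KB.D8.B) = true := by decide +kernel

theorem cardB : 8 < (Finset.univ.filter fun s : Fin chevE8.nroots =>
    dq (vec chevE8 8 s) H682.KB.D8.B = (0, 0, 0, 0)).card := by decide +kernel

theorem cardV : (Finset.univ.filter fun s : Fin chevE8.nroots =>
    ¬ okU P C (dq (vec chevE8 8 s) V₁) = true).card ≤ 8 := by decide +kernel

end D8

namespace D10

/-- the relation -/
def P : Q4 := (-1, 1, -1, 1)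

/-- the conjugates -/
def C : List (Q4 × Q4 × Q4) := [((0, 0, 0, 1), (0, -1, 0, 0), (1, -1, 1, -1)), ((0, 0, -1, 0), (-1, 1, -1, 1), (0, 1, 0, 0)), ((1, -1, 1, -1), (0, 0, 0, -1), (0, 0, -1, 0))]

def V₁ : List Q4 := [(1, -1, 0, -1), (0, -1, 0, 1), (0, 1, 0, 1), (0, 0, 1, -1), (-1, 1, -2, 1), (1, -1, 1, -1), (0, 0, 0, 0), (-1, 0, 0, 0)]

def V₂ : List Q4 := [(0, 0, 0, 1), (1, -1, 1, -1), (0, -1, 0, 0), (-1, 1, -1, 0), (1, 0, 0, 0), (-1, 1, 0, 1), (0, -1, 1, -1), (1, 0, 0, 0)]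

/-- the root kernels -/
def R : List (Q4 × Q4) := [((1, 0, 0, 0), (0, 0, 0, 0)), ((0, 0, 0, 0), (1, 0, 0, 0)), ((1, -1, 1, -1), (0, 0, 1, 0)), ((0, 0, -1, 0), (1, 0, 1, 0)), ((0, 0, 0, 1), (1, -1, 1, -1)), ((-1, 1, -1, 1), (1, 0, 0, -1)), ((1, 0, 0, -1), (0, 0, 0, 1)), ((1, -1, 0, -1), (0, 1, 0, 1)), ((1, 0, 1, 0), (0, -1, 0, 0)), ((-1, 0, -1, 1), (2, -1, 1, -1)), ((0, 1, 0, 1), (0, -1, 0, -1)), ((2, -1, 1, -1), (-1, 0, 0, 1))]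

def B1 : Mat 8 := mt [[1, 0, -1, 0, 0, 0, 1, 0], [-1, 0, 0, 1, -1, 0, 0, 1], [-1, 0, 1, 0, -1, 1, 0, -1], [1, -1, 0, 0, 1, -1, 0, 0], [0, 2, 0, -1, 0, 0, 0, 0], [0, -1, 0, 0, 0, 1, -1, 1], [0, 0, -1, 1, 0, 0, 0, -1], [-1, 0, 1, -1, 1, -1, 1, 0]]

def B2 : Mat 8 := mt [[0, 0, -1, 0, 1, 0, 0, 0], [-1, -1, 1, 0, 1, -1, 0, 0], [0, -1, 0, 1, -1, 1, -1, 0], [1, 1, 0, -1, 0, 0, 1, -1], [-1, 0, 0, 1, -1, 0, 0, 1], [0, 0, 0, -1, 1, 0, 0, 0], [1, 0, 0, 0, 0, 0, -1, 1], [-1, 1, 0, 0, 0, 0, 0, -1]]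

def B3 : Mat 8 := mt [[0, 1, 0, -1, 1, 0, -1, 1], [0, 1, 1, -1, 0, 0, 0, -1], [1, -1, 0, 0, 0, 0, 0, 0], [0, 0, -1, 1, -1, 1, 0, 0], [-1, -1, 1, 0, 1, -1, 0, 0], [0, 1, -1, 0, 0, 0, 0, 0], [0, 0, 1, -1, 0, 0, 1, 0], [0, 0, 0, 1, -1, 0, -1, 1]]

def BB : Fin 4 → Mat 8 := ![Am, B1, B2, B3]

theorem eV₁ : EigQ P (hd H682.KB.D10.cw) (0, 1, 0, 0) V₁ := by decide +kernel

theorem eV₂ : EigQ P (hd H682.KB.D10.cw) (0, 1, 0, 0) V₂ := by decide +kernel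

theorem h11 : dq (vec chevE8 8 s₁) V₁ = (1, 0, 0, 0) := by decide +kernel

theorem h12 : dq (vec chevE8 8 s₁) V₂ = (0, 0, 0, 0) := by decide +kernel

theorem h21 : dq (vec chevE8 8 (sx 1)) V₁ = (0, 0, 0, 0) := by decide +kernel

theorem h22 : dq (vec chevE8 8 (sx 1)) V₂ = (1, 0, 0, 0) := by decide +kernel

theorem hR : ∀ s : Fin chevE8.nroots, (okU P C (dq (vec chevE8 8 s) V₁) = true ∨ okU P C (dq (vec chevE8 8 s) V₂) = true) ∧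
    ∃ ρ ∈ R, mul4 P (dq (vec chevE8 8 s) V₁) ρ.2 = mul4 P (dq (vec chevE8 8 s) V₂) ρ.1 := by decide +kernel

theorem hRu : ∀ ρ ∈ R, okU P C ρ.1 = true ∨ okU P C ρ.2 = true := by decide +kernel

theorem hB : ∀ (k : Fin 3) (i m : Fin 8), BB k.succ i m = ∑ j, BB k.castSucc i j * hd H682.KB.D10.cw m j := by decide +kernel

theorem hn1 : (Finset.univ.filter fun s : Fin chevE8.nroots => ∀ k : Fin 4, bil (BB k) (vec chevE8 8 s) (vec chevE8 8 s) =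
    bil (BB k) (vec chevE8 8 s₁) (vec chevE8 8 s₁)).card ≤ 120 := by decide +kernel

theorem hn2 : (Finset.univ.filter fun s : Fin chevE8.nroots => ∀ k : Fin 4, bil (BB k) (vec chevE8 8 s) (vec chevE8 8 s) =
    bil (BB k) (vec chevE8 8 (sx 1)) (vec chevE8 8 (sx 1)) ∧ bil (BB k) (vec chevE8 8 s) (vec chevE8 8 s₁) =
    bil (BB k) (vec chevE8 8 (sx 1)) (vec chevE8 8 s₁)).card ≤ 5 := by decide +kernel

theorem cenB : ∀ s : Fin chevE8.nroots, dq (vec chevE8 8 s) H682.KB.D10.B = (0, 0, 0, 0) ∨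
    okU P C (dq (vec chevE8 8 s) H682.KB.D10.B) = true := by decide +kernel

theorem cardB : 0 < (Finset.univ.filter fun s : Fin chevE8.nroots =>
    dq (vec chevE8 8 s) H682.KB.D10.B = (0, 0, 0, 0)).card := by decide +kernel

end D10

namespace D12

/-- the relation -/
def P : Q4 := (-1, 0, 1, 0)

/-- the conjugates -/
def C : List (Q4 × Q4 × Q4) := [((0, -1, 0, 1), (1, 0, -1, 0), (0, 0, 0, 1)), ((0, -1, 0, 0), (0, 0, 1, 0), (0, 0, 0, -1)), ((0, 1, 0, -1), (1, 0, -1, 0), (0, 0, 0, -1))]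

def V₁ : List Q4 := [(0, 0, 0, 1), (0, 1, -1, 0), (0, 0, 1, -1), (1, -1, -1, 1), (-1, 0, 1, -1), (0, 0, 0, 1), (0, 1, 0, -1), (-1, 0, 0, 0)]

def V₂ : List Q4 := [(1, -1, -1, 0), (1, -1, -1, 2), (-1, 0, 1, 0), (0, 0, 1, -1), (0, 1, -1, 0), (0, 0, 0, 0), (-1, 0, 0, 0), (1, 0, 0, 0)]

/-- the root kernels -/
def R : List (Q4 × Q4) := [((1, 0, 0, 0), (0, 0, 0, 0)), ((0, 0, 0, 0), (1, 0, 0, 0)), ((-1, 1, 1, -1), (0, 1, -1, 0)), ((0, 0, 1, -1), (-1, 1, 1, -1)), ((0, 1, 0, -1), (0, 0, 0, 1)), ((0, 1, 0, -1), (-1, 1, 0, 0)), ((-1, 1, 0, -1), (0, 1, 0, 0)), ((0, 0, 1, 0), (0, 0, 0, -1)), ((0, 1, 0, 0), (1, -1, -1, 1)), ((-1, 1, 0, 0), (1, 0, -1, 0)), ((0, 1, 1, -1), (-1, 0, 0, 0)), ((-1, 0, 0, 0), (1, 1, -1, 0)), ((0, 0, 0, -1), (0, 0, 1, 0)), ((0, 1, 0, 0), (0, -1, 0, 0))]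

def B1 : Mat 8 := mt [[1, -1, 0, 0, 0, 0, 1, -1], [-1, -1, 1, 1, -1, 0, 0, 0], [-1, 1, 0, 0, -1, 1, 0, 0], [0, 0, 0, -1, 2, -1, 0, 0], [1, 0, -1, 1, -1, 0, 0, 1], [0, 0, 1, -1, 0, 1, -1, 0], [0, 1, 0, 0, 0, -1, 1, -1], [0, -1, -1, 1, 0, 1, -1, 0]]

def B2 : Mat 8 := mt [[1, 1, 0, -1, 0, 0, 1, -1], [-1, 1, 0, -1, 1, 0, 0, 0], [-1, 0, 1, 0, 0, 0, -1, 0], [1, 0, -1, 1, -1, 0, 0, 1], [0, -1, 0, 0, 1, 0, 0, -1], [0, 0, 0, 0, -1, 1, 0, 0], [-1, 0, 1, 0, 0, -1, 1, 0], [1, 0, 0, -1, 1, 0, -1, 1]]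

def B3 : Mat 8 := mt [[0, 0, 1, 0, -1, 0, 1, -1], [0, 0, 0, 1, -1, 0, -1, 1], [-1, 0, 0, 0, 0, 0, 0, 1], [0, -1, 0, 0, 1, 0, 0, -1], [1, 1, 0, -1, 0, 0, 0, 1], [0, 0, 0, 0, 0, 0, 0, -1], [-1, 1, 0, 0, 0, 0, 0, 0], [1, -1, -1, 1, -1, 1, 0, 0]]

def BB : Fin 4 → Mat 8 := ![Am, B1, B2, B3]

theorem eV₁ : EigQ P (hd H682.KB.D12.cw) (0, 1, 0, 0) V₁ := by decide +kernel

theorem eV₂ : EigQ P (hd H682.KB.D12.cw) (0, 1, 0, 0) V₂ := by decide +kernel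

theorem h11 : dq (vec chevE8 8 s₁) V₁ = (1, 0, 0, 0) := by decide +kernel

theorem h12 : dq (vec chevE8 8 s₁) V₂ = (0, 0, 0, 0) := by decide +kernel

theorem h21 : dq (vec chevE8 8 (sx 1)) V₁ = (0, 0, 0, 0) := by decide +kernel

theorem h22 : dq (vec chevE8 8 (sx 1)) V₂ = (1, 0, 0, 0) := by decide +kernel

theorem hR : ∀ s : Fin chevE8.nroots, (okU P C (dq (vec chevE8 8 s) V₁) = true ∨ okU P C (dq (vec chevE8 8 s) V₂) = true) ∧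
    ∃ ρ ∈ R, mul4 P (dq (vec chevE8 8 s) V₁) ρ.2 = mul4 P (dq (vec chevE8 8 s) V₂) ρ.1 := by decide +kernel

theorem hRu : ∀ ρ ∈ R, okU P C ρ.1 = true ∨ okU P C ρ.2 = true := by decide +kernel

theorem hB : ∀ (k : Fin 3) (i m : Fin 8), BB k.succ i m = ∑ j, BB k.castSucc i j * hd H682.KB.D12.cw m j := by decide +kernel

theorem hn1 : (Finset.univ.filter fun s : Fin chevE8.nroots => ∀ k : Fin 4, bil (BB k) (vec chevE8 8 s) (vec chevE8 8 s) =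
    bil (BB k) (vec chevE8 8 s₁) (vec chevE8 8 s₁)).card ≤ 72 := by decide +kernel

theorem hn2 : (Finset.univ.filter fun s : Fin chevE8.nroots => ∀ k : Fin 4, bil (BB k) (vec chevE8 8 s) (vec chevE8 8 s) =
    bil (BB k) (vec chevE8 8 (sx 1)) (vec chevE8 8 (sx 1)) ∧ bil (BB k) (vec chevE8 8 s) (vec chevE8 8 s₁) =
    bil (BB k) (vec chevE8 8 (sx 1)) (vec chevE8 8 s₁)).card ≤ 4 := by decide +kernel

theorem cenB : ∀ s : Fin chevE8.nroots, dq (vec chevE8 8 s) H682.KB.D12.B = (0, 0, 0, 0) ∨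
    okU P C (dq (vec chevE8 8 s) H682.KB.D12.B) = true := by decide +kernel

theorem cenB' : ∀ s : Fin chevE8.nroots, dq (vec chevE8 8 s) H682.KB.D12.B' = (0, 0, 0, 0) ∨
    okU P C (dq (vec chevE8 8 s) H682.KB.D12.B') = true := by decide +kernel

end D12

end Cfsg.Agent.H208.XR
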