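import Cfsg.Agent.H208.XR.Line
import Cfsg.Agent.H208.XR.E8Data
import Cfsg.Agent.H682.KB.KMain
import Cfsg.Agent.S1093

/-!
# `E₈`, `d = 5, 8, 10, 12`: heights and `k_J` (S4791, S4927; helper208)
-/

set_option autoImplicit false
set_option linter.unusedSectionVars false

namespace Cfsg.Agent.H208.XR

open CoxeterSystem Cfsg Cfsg.Lie Cfsg.Lie.ChevalleyDatum
open Cfsg.Agent.ChevalleyStructure Cfsg.Agent.ChevalleyStructure.Elts Cfsg.Agent.ChevalleyStructure.CoxeterGeom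
  Cfsg.Agent.ChevalleyStructure.CoxeterGeomTypes Cfsg.Agent.ChevalleyStructure.NPerm
open Cfsg.Agent.Tits.Roots Cfsg.Agent.Tits.Core Cfsg.Agent.Nodes Cfsg.Agent.Nodes.Reps Cfsg.Agent.Nodes.BNOf
  Cfsg.Agent.Nodes.RGDChev Cfsg.Agent.Nodes.Bruhat
open Cfsg.Agent.H129.TorusChar Cfsg.Agent.H129.WData Cfsg.Agent.H210.EL Cfsg.Agent.H440.TD4
open Cfsg.Agent.H942.E8Tab
open Cfsg.Agent.H682.KB
open Cfsg.Agent.H944.RootVals (ms)
open Cfsg.Agent.H674.XZ Cfsg.Agent.H508.XR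

universe u v

variable {p : ℕ} [hpp : Fact p.Prime] {Mx : Ideal AlgInt} {F : Type} [Field F] [Fintype F] {S : Type u} [Group S]

theorem not_dvd_W8 (h11 : 11 ≤ p) : ¬ p ∣ Nat.card CoxeterMatrix.E₈.Group := by
  intro h
  rw [Cfsg.Agent.S1093.result (⟨8, CoxeterMatrix.E₈⟩, 696729600) (by simp)] at h
  have h2 : p ∈ [2, 2, 2, 2, 2, 2, 2, 2, 2, 2, 2, 2, 2, 2, 3, 3, 3, 3, 3, 5, 5, 7] :=
    dvd_cases (by norm_num) (by norm_num; exact h)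
  simp only [List.mem_cons, List.not_mem_nil, or_false] at h2
  omega

/-- the data of the eigenspace -/
structure Sp (P : Q4) (W : Mat 8) (V₁ V₂ : List Q4) (t₁ t₂ : Fin chevE8.nroots) (C : List (Q4 × Q4 × Q4))
    (R : List (Q4 × Q4)) (B : Fin 4 → Mat 8) (n₁ n₂ : ℕ) : Prop where
  e1 : EigQ P W (0, 1, 0, 0) V₁
  e2 : EigQ P W (0, 1, 0, 0) V₂
  h11 : dq (vec chevE8 8 t₁) V₁ = (1, 0, 0, 0)
  h12 : dq (vec chevE8 8 t₁) V₂ = (0, 0, 0, 0)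
  h21 : dq (vec chevE8 8 t₂) V₁ = (0, 0, 0, 0)
  h22 : dq (vec chevE8 8 t₂) V₂ = (1, 0, 0, 0)
  hR : ∀ s : Fin chevE8.nroots, (okU P C (dq (vec chevE8 8 s) V₁) = true ∨ okU P C (dq (vec chevE8 8 s) V₂) = true) ∧
    ∃ ρ ∈ R, mul4 P (dq (vec chevE8 8 s) V₁) ρ.2 = mul4 P (dq (vec chevE8 8 s) V₂) ρ.1
  hRu : ∀ ρ ∈ R, okU P C ρ.1 = true ∨ okU P C ρ.2 = true
  b0 : B 0 = Am
  hB : ∀ (k : Fin 3) (i m : Fin 8), B k.succ i m = ∑ j, B k.castSucc i j * W m j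
  hn1 : (Finset.univ.filter fun s : Fin chevE8.nroots => ∀ k : Fin 4, bil (B k) (vec chevE8 8 s) (vec chevE8 8 s) =
    bil (B k) (vec chevE8 8 t₁) (vec chevE8 8 t₁)).card ≤ n₁
  hn2 : (Finset.univ.filter fun s : Fin chevE8.nroots => ∀ k : Fin 4, bil (B k) (vec chevE8 8 s) (vec chevE8 8 s) =
    bil (B k) (vec chevE8 8 t₂) (vec chevE8 8 t₂) ∧ bil (B k) (vec chevE8 8 s) (vec chevE8 8 t₁) =
    bil (B k) (vec chevE8 8 t₂) (vec chevE8 8 t₁)).card ≤ n₂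

/-- the data of a line -/
structure LD (P : Q4) (cw cv : List (Fin 8 × Mat 8)) (s : Q4) (B A : List Q4) (C : List (Q4 × Q4 × Q4)) : Prop where
  ok : ChainOK Am cv
  comm : CommOK (hd cv) (hd cw)
  eb : EigQ P (hd cw) (0, 1, 0, 0) B
  ea : EigQ P (hd cw) (0, 1, 0, 0) A
  evb : EigQ P (hd cv) (1, 0, 0, 0) B
  eva : EigQ P (hd cv) s A
  ib : ∃ i : Fin 8, B.getD i (0, 0, 0, 0) = (1, 0, 0, 0)
  ia : ∃ i : Fin 8, A.getD i (0, 0, 0, 0) = (1, 0, 0, 0)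
  cen : ∀ s : Fin chevE8.nroots, dq (vec chevE8 8 s) B = (0, 0, 0, 0) ∨ okU P C (dq (vec chevE8 8 s) B) = true

/-- the word -/
abbrev wd (c : List (Fin 8 × Mat 8)) : CoxeterMatrix.E₈.Group :=
  CoxeterMatrix.E₈.toCoxeterSystem.wordProd (c.map Prod.fst)

theorem Sp.two {P : Q4} {cw : List (Fin 8 × Mat 8)} (hcw : ChainOK Am cw) {V₁ V₂ : List Q4}
    {t₁ t₂ : Fin chevE8.nroots} {C : List (Q4 × Q4 × Q4)} {R : List (Q4 × Q4)} {B : Fin 4 → Mat 8} {n₁ n₂ : ℕ}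
    (h : Sp P (hd cw) V₁ V₂ t₁ t₂ C R B n₁ n₂) : Two e8T' (AddEquiv.refl (Fin 8 → ℤ)) (wd cw) P V₁ V₂ t₁ t₂ :=
  ⟨⟨hd cw, fun j => chain_rep e8T' _ hA hcw j, h.e1, h.e2⟩, h.h11, h.h12, h.h21, h.h22⟩

/-- the model -/
theorem exists_mod (h11 : 11 ≤ p) (hpF : (p : F) ≠ 0) (f : ↥(chevE8.group F) ≃* S) (a : ℕ)
    (w : CoxeterMatrix.E₈.Group) : ∃ X : (Fin 8 → ZMod (p ^ a)) → S,
      ModelN e8T' (p ^ a) (Fintype.card F) (AddEquiv.refl (Fin 8 → ℤ)) w X := by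
  obtain ⟨X, hX⟩ := exists_modelN_untw (a := a) e8T' hpF (not_dvd_W8 h11) invC_E8 w
  exact ⟨_, hX.map f⟩

section

variable {a Q : ℕ} {cw : List (Fin 8 × Mat 8)} {X : (Fin 8 → ZMod (p ^ a)) → S}
  (H : ModelN e8T' (p ^ a) Q (AddEquiv.refl (Fin 8 → ℤ)) (wd cw) X) [Finite S]

include H in
/-- **Heights.** -/
theorem x0_eq (hM : IsPModular p Mx) (ha : a ≠ 0) (h11 : 11 ≤ p) (hG : ¬ p ^ (2 * a + 1) ∣ Nat.card S)
    (hcw : ChainOK Am cw) {P : Q4} {V₁ V₂ : List Q4}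
    {t₁ t₂ : Fin chevE8.nroots} {C : List (Q4 × Q4 × Q4)} {R : List (Q4 × Q4)} {B : Fin 4 → Mat 8} {n₁ n₂ : ℕ}
    (h : Sp P (hd cw) V₁ V₂ t₁ t₂ C R B n₁ n₂) (hq : (Q : ZMod (p ^ a)) ^ 4 = ev (Q : ZMod (p ^ a)) P)
    (hn : a = 1 ∨ n₁ * n₂ + R.length < p ^ 2) : x0 p Mx S = kJ p Mx S := by
  refine x0_eq_kJ_of_two H hM ha (by omega) hG (h.two hcw) hq h.hR h.hRu
    (fun j => chain_rep e8T' _ hA hcw j) (fun v x y => ?_) h.hB h.hn1 h.hn2 hn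
  rw [h.b0]
  exact bil_rep e8T' hA Am_symm Am_two v x y

include H in
/-- the order of a Sylow subgroup -/
theorem pow_dvd_card (hG : ¬ p ^ (2 * a + 1) ∣ Nat.card S)
    (hcw : ChainOK Am cw) {P : Q4} {V₁ V₂ : List Q4}
    {t₁ t₂ : Fin chevE8.nroots} {C : List (Q4 × Q4 × Q4)} {R : List (Q4 × Q4)} {B : Fin 4 → Mat 8} {n₁ n₂ : ℕ}
    (h : Sp P (hd cw) V₁ V₂ t₁ t₂ C R B n₁ n₂) (hq : (Q : ZMod (p ^ a)) ^ 4 = ev (Q : ZMod (p ^ a)) P) :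
    p ^ (2 * a) ∣ Nat.card S := by
  obtain ⟨hL, -, -⟩ := exists_sylow H ((h.two hcw).le_card_Lam hq) hG
  rw [← hL, ← card_toSub H]
  exact (toSub H).card_subgroup_dvd_card

include H in
/-- **The line.** -/
theorem line_of (hM : IsPModular p Mx) (ha : a ≠ 0) (h11 : 11 ≤ p) (hG : ¬ p ^ (2 * a + 1) ∣ Nat.card S)
    (hcw : ChainOK Am cw) {P : Q4} {cv : List (Fin 8 × Mat 8)} {s : Q4} {B A : List Q4}
    {C : List (Q4 × Q4 × Q4)} (h : LD P cw cv s B A C)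
    (hq : (Q : ZMod (p ^ a)) ^ 4 = ev (Q : ZMod (p ^ a)) P) (hq1 : (Q : ZMod (p ^ 1)) ^ 4 = ev (Q : ZMod (p ^ 1)) P)
    {n : ℕ} (hn : (n : ZMod (p ^ a)) * ev (Q : ZMod (p ^ a)) s = 1) {e : ℕ}
    (hfus : ∀ i : ℕ, ¬ p ∣ i → ms chevE8 8 (fun n : Fin 8 => ((1 : ℕ) : ZMod (p ^ 1)) * vv (Q : ZMod (p ^ 1)) B n) =
      ms chevE8 8 (fun n : Fin 8 => (i : ZMod (p ^ 1)) * vv (Q : ZMod (p ^ 1)) B n) → (i : ZMod p) ^ e = 1) :
    Ln p Mx (X (up p a (vv (Q : ZMod (p ^ 1)) B))) e (orderOf (n : ZMod p)) := by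
  obtain ⟨ib, hib⟩ := h.ib
  obtain ⟨ia, hia⟩ := h.ia
  have hW : ∀ j, rep CoxeterMatrix.E₈.toCoxeterSystem e8T'.isCartan (wd cw) ((AddEquiv.refl (Fin 8 → ℤ)) (sr j)) = hd cw j :=
    fun j => chain_rep e8T' _ hA hcw j
  have h1 : lam (vv (Q : ZMod (p ^ a)) B : Fin 8 → ZMod (p ^ a)) (sr ib) = 1 := by
    rw [lam_sr]
    unfold vv
    rw [hib]
    exact ev_one
  have h2 : lam (vv (Q : ZMod (p ^ a)) A : Fin 8 → ZMod (p ^ a)) (sr ia) = 1 := by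
    rw [lam_sr]
    unfold vv
    rw [hia]
    exact ev_one
  have key := exists_line H hM ha hG (c := vv (Q : ZMod (p ^ a)) B) (y := vv (Q : ZMod (p ^ a)) A)
    (vv_mem hW hq h.eb) (vv_mem hW hq h.ea) (h1 ▸ isUnit_one) (h2 ▸ isUnit_one)
    (Cth_of_comm e8T' hA hcw h.ok h.comm)
    (fun x => by
      have h3 := lam_rep_vv e8T' hA h.ok hq h.evb x
      rwa [ev_one, one_mul] at h3) (lam_rep_vv e8T' hA h.ok hq h.eva) hn
    (fun s => by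
      rcases h.cen s with h3 | h3
      · left
        rw [lam_vv, h3]
        exact ev_zero
      · right
        rw [red_vv ha, lam_vv]
        have : Fact (1 < p ^ 1) := ⟨by rw [pow_one]; exact hpp.out.one_lt⟩
        exact (isUnit_of_okU one_ne_zero (by omega) hq1 h3).ne_zero) (e := e)
    (fun i hpi hi => hfus i hpi (by
      rw [red_vv ha] at hi
      rw [← hi]
      congr 1
      funext n
      rw [Nat.cast_one, one_mul]))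
  rwa [red_vv ha] at key

include H in
/-- `2 ≤ l(B₀)` -/
theorem two_le_of (hM : IsPModular p Mx) (ha : a ≠ 0)
    (hcw : ChainOK Am cw) {P : Q4} {cv : List (Fin 8 × Mat 8)} {s : Q4} {B A : List Q4}
    {C : List (Q4 × Q4 × Q4)} (h : LD P cw cv s B A C)
    (hq : (Q : ZMod (p ^ a)) ^ 4 = ev (Q : ZMod (p ^ a)) P)
    {n : ℕ} (hn : (n : ZMod (p ^ a)) * ev (Q : ZMod (p ^ a)) s = 1) (hn1 : (n : ZMod p) ≠ 1) :
    2 ≤ blockRank p (principalBlock Mx S) := by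
  obtain ⟨ia, hia⟩ := h.ia
  have hW : ∀ j, rep CoxeterMatrix.E₈.toCoxeterSystem e8T'.isCartan (wd cw) ((AddEquiv.refl (Fin 8 → ℤ)) (sr j)) = hd cw j :=
    fun j => chain_rep e8T' _ hA hcw j
  have h2 : lam (vv (Q : ZMod (p ^ a)) A : Fin 8 → ZMod (p ^ a)) (sr ia) = 1 := by
    rw [lam_sr]
    unfold vv
    rw [hia]
    exact ev_one
  exact two_le_of_line H hM ha (vv_mem hW hq h.ea) (h2 ▸ isUnit_one) (Cth_of_comm e8T' hA hcw h.ok h.comm)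
    (lam_rep_vv e8T' hA h.ok hq h.eva) hn hn1

include H in
/-- **A line and a regular element.** -/
theorem kJ_add_reg (hM : IsPModular p Mx) (ha : a ≠ 0) (h11 : 11 ≤ p)
    (hcw : ChainOK Am cw) {P : Q4} {V₁ V₂ : List Q4}
    {t₁ t₂ : Fin chevE8.nroots} {C : List (Q4 × Q4 × Q4)} {R : List (Q4 × Q4)} {BB : Fin 4 → Mat 8} {n₁ n₂ : ℕ}
    (h : Sp P (hd cw) V₁ V₂ t₁ t₂ C R BB n₁ n₂)
    (hq1 : (Q : ZMod (p ^ 1)) ^ 4 = ev (Q : ZMod (p ^ 1)) P) {B : List Q4} (hB : EigQ P (hd cw) (0, 1, 0, 0) B)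
    (hR : R.length < p) (hcB : 0 < (Finset.univ.filter fun s : Fin chevE8.nroots =>
      dq (vec chevE8 8 s) B = (0, 0, 0, 0)).card) {e b : ℕ}
    (L : Ln p Mx (X (up p a (vv (Q : ZMod (p ^ 1)) B))) e b) :
    (p - 1) / e * b + 1 + blockRank p (principalBlock Mx S) ≤ kJ p Mx S := by
  have hW : ∀ j, rep CoxeterMatrix.E₈.toCoxeterSystem e8T'.isCartan (wd cw) ((AddEquiv.refl (Fin 8 → ℤ)) (sr j)) = hd cw j :=
    fun j => chain_rep e8T' _ hA hcw j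
  have hreg := (h.two hcw).card_reg (a := 1) (Q := Q) one_ne_zero (by omega) hq1 R h.hR h.hRu
  have hne : (LamReg e8T' (p ^ 1) Q (AddEquiv.refl (Fin 8 → ℤ)) (wd cw)).Nonempty := by
    by_contra hcon
    rw [Set.not_nonempty_iff_eq_empty] at hcon
    rw [hcon, Nat.card_of_isEmpty (α := ↥(∅ : Set (Fin 8 → ZMod (p ^ 1)))), zero_add, pow_one, mul_one, sq] at hreg
    exact absurd (Nat.le_of_mul_le_mul_right hreg hpp.out.pos) (by omega)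
  obtain ⟨z, hz, hzr⟩ := hne
  have hz0 : z ≠ 0 := by
    rintro rfl
    refine hzr t₁ ?_
    unfold lam
    simp
  refine H76.KJ.kJ_of_elt_add (by omega) hM _ L.ord e b L.fus L.rank _ (orderOf_up H ha hz hz0)
    (not_conj_pow H ha (vv_mem hW hq1 hB) hz (n := 0) ?_ ?_)
  · rw [Nat.le_zero, Finset.card_eq_zero, Finset.filter_eq_empty_iff]
    exact fun s _ => hzr s
  · refine hcB.trans_le (Finset.card_le_card fun s hs => ?_)
    rw [Finset.mem_filter] at hs ⊢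
    refine ⟨hs.1, ?_⟩
    rw [lam_vv, hs.2]
    exact ev_zero

end

end Cfsg.Agent.H208.XR
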