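import Cfsg.Agent.H208.XR.E8Core

/-!
# `E₈(q)`, `ord_p(q) ∈ {5, 8, 10, 12}`: `p + 5 ≤ 2 x₀` (S4791, S4927; helper208)
-/

set_option autoImplicit false
set_option linter.unusedSectionVars false

namespace Cfsg.Agent.H208.XR

open CoxeterSystem Cfsg Cfsg.Lie Cfsg.Lie.ChevalleyDatum
open Cfsg.Agent.ChevalleyStructure Cfsg.Agent.ChevalleyStructure.Elts Cfsg.Agent.ChevalleyStructure.CoxeterGeom
  Cfsg.Agent.ChevalleyStructure.CoxeterGeomTypes Cfsg.Agent.ChevalleyStructure.NPerm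
open Cfsg.Agent.Tits.Roots Cfsg.Agent.Tits.Core Cfsg.Agent.Nodes Cfsg.Agent.Nodes.Reps Cfsg.Agent.Nodes.BNOf
  Cfsg.Agent.Nodes.RGDChev Cfsg.Agent.Nodes.Bruhat
open Cfsg.Agent.H129.TorusChar Cfsg.Agent.H129.WData Cfsg.Agent.H210.EL Cfsg.Agent.H440.TD4
open Cfsg.Agent.H942.E8Tab
open Cfsg.Agent.H682.KB
open Cfsg.Agent.H944.Tab
open Cfsg.Agent.H944.RootVals (ms)
open Cfsg.Agent.H674.XZ Cfsg.Agent.H508.XR

universe u v

theorem D5.sp : Sp D5.P (hd H682.KB.D5.cw) D5.V₁ D5.V₂ s₁ (sx 1) D5.C D5.R D5.BB 120 5 :=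
  ⟨D5.eV₁, D5.eV₂, D5.h11, D5.h12, D5.h21, D5.h22, D5.hR, D5.hRu, rfl, D5.hB, D5.hn1, D5.hn2⟩

theorem D5.ld : LD D5.P H682.KB.D5.cw H682.KB.D5.cv (0, 1, 0, 0) H682.KB.D5.B H682.KB.D5.A D5.C :=
  ⟨H682.KB.D5.cv_ok, H682.KB.D5.comm, H682.KB.D5.eb, H682.KB.D5.ea, H682.KB.D5.evb, H682.KB.D5.eva, H682.KB.D5.ib,
    H682.KB.D5.ia, D5.cenB⟩

theorem D10.sp : Sp D10.P (hd H682.KB.D10.cw) D10.V₁ D10.V₂ s₁ (sx 1) D10.C D10.R D10.BB 120 5 :=
  ⟨D10.eV₁, D10.eV₂, D10.h11, D10.h12, D10.h21, D10.h22, D10.hR, D10.hRu, rfl, D10.hB, D10.hn1, D10.hn2⟩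

theorem D10.ld : LD D10.P H682.KB.D10.cw H682.KB.D10.cv (0, 0, 0, -1) H682.KB.D10.B H682.KB.D10.A D10.C :=
  ⟨H682.KB.D10.cv_ok, H682.KB.D10.comm, H682.KB.D10.eb, H682.KB.D10.ea, H682.KB.D10.evb, H682.KB.D10.eva,
    H682.KB.D10.ib, H682.KB.D10.ia, D10.cenB⟩

theorem D8.sp : Sp D8.P (hd H682.KB.D8.cw) D8.V₁ D8.V₂ s₁ (sx 4) D8.C D8.R D8.BB 48 4 :=
  ⟨D8.eV₁, D8.eV₂, D8.h11, D8.h12, D8.h21, D8.h22, D8.hR, D8.hRu, rfl, D8.hB, D8.hn1, D8.hn2⟩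

theorem D8.ld : LD D8.P H682.KB.D8.cw H682.KB.D8.cv (0, 0, -1, 0) H682.KB.D8.B H682.KB.D8.A D8.C :=
  ⟨H682.KB.D8.cv_ok, H682.KB.D8.comm, H682.KB.D8.eb, H682.KB.D8.ea, H682.KB.D8.evb, H682.KB.D8.eva,
    H682.KB.D8.ib, H682.KB.D8.ia, D8.cenB⟩

theorem D12.sp : Sp D12.P (hd H682.KB.D12.cw) D12.V₁ D12.V₂ s₁ (sx 1) D12.C D12.R D12.BB 72 4 :=
  ⟨D12.eV₁, D12.eV₂, D12.h11, D12.h12, D12.h21, D12.h22, D12.hR, D12.hRu, rfl, D12.hB, D12.hn1, D12.hn2⟩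

theorem D12.ld : LD D12.P H682.KB.D12.cw H682.KB.D12.cv (0, 0, 0, 1) H682.KB.D12.B H682.KB.D12.A D12.C :=
  ⟨H682.KB.D12.cv_ok, H682.KB.D12.comm, H682.KB.D12.eb, H682.KB.D12.ea, H682.KB.D12.evb, H682.KB.D12.eva,
    H682.KB.D12.ib, H682.KB.D12.ia, D12.cenB⟩

theorem D12.ld' : LD D12.P H682.KB.D12.cw H682.KB.D12.cv' (-1, 0, 1, 0) H682.KB.D12.B' H682.KB.D12.A' D12.C :=
  ⟨H682.KB.D12.cv'_ok, H682.KB.D12.comm', H682.KB.D12.eb', H682.KB.D12.ea', H682.KB.D12.evb', H682.KB.D12.eva',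
    H682.KB.D12.ib', H682.KB.D12.ia', D12.cenB'⟩

variable {p : ℕ} [hpp : Fact p.Prime] {Mx : Ideal AlgInt} {F : Type} [Field F] [Fintype F] {S : Type u} [Group S]
  [Finite S]

theorem level_one {d : ℕ} (hd : orderOf (Fintype.card F : ZMod p) = d) : (Fintype.card F : ZMod (p ^ 1)) ^ d = 1 := by
  have hq : 1 < Fintype.card F := Fintype.one_lt_card
  apply qd_eq_one (by omega)
  rw [pow_one, ← CharP.cast_eq_zero_iff (ZMod p) p, Nat.cast_sub (Nat.one_le_pow _ _ (by omega)), sub_eq_zero,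
    Nat.cast_pow, Nat.cast_one, ← hd, pow_orderOf_eq_one]

theorem one_of_ten {i : ℕ} (hi : ¬ p ∣ i) (h11 : 11 ≤ p) (h5 : 5 ∣ p - 1)
    (h20 : ¬ p ∣ 2300100 → ((1 : ℕ) : ZMod p) ^ 20 = (i : ZMod p) ^ 20)
    (h30 : ¬ p ∣ 1144893750 → ((1 : ℕ) : ZMod p) ^ 30 = (i : ZMod p) ^ 30)
    (h50 : ¬ p ∣ 457212665937500 → ((1 : ℕ) : ZMod p) ^ 50 = (i : ZMod p) ^ 50) : (i : ZMod p) ^ 10 = 1 := by
  have h := ten_of (a := ((1 : ℕ) : ZMod p)) (b := (i : ZMod p)) (by rw [Nat.cast_one]; exact one_ne_zero)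
    (cast_ne_zero hi) h20 h30 h50 h11 h5
  rw [Nat.cast_one, one_pow] at h
  exact h.symm

/-- the arithmetic in rank two -/
theorem bound10 {k : ℕ} (h10 : 10 ∣ p - 1) (h : (p - 1) / 10 * 5 + 1 + 2 ≤ k) (h11 : 11 ≤ p) : p + 5 ≤ 2 * k := by
  obtain ⟨t, ht⟩ := h10
  rw [ht, Nat.mul_div_cancel_left _ (by norm_num)] at h
  omega

theorem ge31 (h10 : 10 ∣ p - 1) (h : p ≠ 11) (h11 : 11 ≤ p) : 31 ≤ p := by
  by_contra hcon
  have h1 : p = 21 := by omega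
  rw [h1] at hpp
  exact absurd hpp.out (by norm_num)

theorem dvd_ten (h5 : 5 ∣ p - 1) (h11 : 11 ≤ p) : 10 ∣ p - 1 := by
  have h1 : p % 2 = 1 := (hpp.out.eq_two_or_odd).resolve_left (by omega)
  omega

theorem a_eq_one {a : ℕ} (ha : a ≠ 0) {n : ℕ} (h : p ^ (2 * a) ∣ n) (h3 : ¬ p ^ 3 ∣ n) : a = 1 := by
  by_contra hcon
  exact h3 ((pow_dvd_pow p (by omega)).trans h)

/-- **`d = 5`** -/
theorem x0_D5 (hM : IsPModular p Mx) (h11 : 11 ≤ p) (hpF : (p : F) ≠ 0)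
    (hd : orderOf (Fintype.card F : ZMod p) = 5) (f : ↥(chevE8.group F) ≃* S) :
    (p ≠ 11 → p + 5 ≤ 2 * x0 p Mx S) ∧ (p = 11 → ¬ p ^ 3 ∣ Nat.card S → 7 ≤ x0 p Mx S) := by
  obtain ⟨m, hm, hS, hqd⟩ := exists_m h11 hd (by norm_num)
  rw [Nat.card_congr f.toEquiv] at hS
  have hq := rel5 hm hd hqd
  have hq1 := rel5 one_ne_zero hd (level_one hd)
  have hp2 : p ≠ 2 := by omega
  have h5 : 5 ∣ p - 1 := dvd_sub_one hd (by norm_num)
  obtain ⟨X, H⟩ := exists_mod h11 hpF f m (wd H682.KB.D5.cw)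
  have hn : ((Fintype.card F ^ 4 : ℕ) : ZMod (p ^ m)) * ev (Fintype.card F : ZMod (p ^ m)) (0, 1, 0, 0) = 1 := by
    rw [ev_x, Nat.cast_pow, ← pow_succ, hqd]
  have ho : orderOf ((Fintype.card F ^ 4 : ℕ) : ZMod p) = 5 := order_cast_pow hd (by norm_num)
  have L := line_of H hM hm h11 hS H682.KB.D5.cw_ok D5.ld hq hq1 hn (e := 10) (fun i hi h1 =>
    one_of_ten hi h11 h5
      (fun hn => pow_eq_mod one_ne_zero hq1 hp2 tab8 len8 (by decide) h1 H682.KB.D5.ct20 hn)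
      (fun hn => pow_eq_mod one_ne_zero hq1 hp2 tab8 len8 (by decide) h1 H682.KB.D5.ct30 hn)
      (fun hn => pow_eq_mod one_ne_zero hq1 hp2 tab8 len8 (by decide) h1 H682.KB.D5.ct50 hn))
  rw [ho] at L
  have h2 := two_le_of H hM hm H682.KB.D5.cw_ok D5.ld hq hn (by
    intro h1
    rw [h1, orderOf_one] at ho
    omega)
  have h10 := dvd_ten h5 h11
  constructor
  · intro hne
    have h31 := ge31 h10 hne h11
    rw [x0_eq H hM hm h11 hS H682.KB.D5.cw_ok D5.sp hq (Or.inr (by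
      show 120 * 5 + 12 < p ^ 2
      nlinarith))]
    refine bound10 h10 (le_trans (Nat.add_le_add_left h2 _) ?_) h11
    exact kJ_add_reg H hM hm h11 H682.KB.D5.cw_ok D5.sp hq1 D5.ld.eb (by show 12 < p; omega) D5.cardB L
  · intro h11' h3
    rw [x0_eq H hM hm h11 hS H682.KB.D5.cw_ok D5.sp hq (Or.inl
      (a_eq_one hm (pow_dvd_card H hS H682.KB.D5.cw_ok D5.sp hq) h3))]
    have h4 := H76.KJ.kJ_of_elt hp2 hM _ L.ord 10 5 L.fus L.rank
    subst h11'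
    omega

/-- **`d = 10`** -/
theorem x0_D10 (hM : IsPModular p Mx) (h11 : 11 ≤ p) (hpF : (p : F) ≠ 0)
    (hd : orderOf (Fintype.card F : ZMod p) = 10) (f : ↥(chevE8.group F) ≃* S) :
    (p ≠ 11 → p + 5 ≤ 2 * x0 p Mx S) ∧ (p = 11 → ¬ p ^ 3 ∣ Nat.card S → 7 ≤ x0 p Mx S) := by
  obtain ⟨m, hm, hS, hqd⟩ := exists_m h11 hd (by norm_num)
  rw [Nat.card_congr f.toEquiv] at hS
  have hq := rel10 hm hd hqd
  have hq1 := rel10 one_ne_zero hd (level_one hd)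
  have hp2 : p ≠ 2 := by omega
  have h10 : 10 ∣ p - 1 := dvd_sub_one hd (by norm_num)
  obtain ⟨X, H⟩ := exists_mod h11 hpF f m (wd H682.KB.D10.cw)
  have hs : ev (Fintype.card F : ZMod (p ^ m)) (0, 0, 0, -1) = (Fintype.card F : ZMod (p ^ m)) ^ 8 :=
    ev_pow [true, false, false, false] hq
  have hn : ((Fintype.card F ^ 2 : ℕ) : ZMod (p ^ m)) * ev (Fintype.card F : ZMod (p ^ m)) (0, 0, 0, -1) = 1 := by
    rw [hs, Nat.cast_pow, ← pow_add, hqd]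
  have ho : orderOf ((Fintype.card F ^ 2 : ℕ) : ZMod p) = 5 := order_cast_pow hd (by norm_num)
  have L := line_of H hM hm h11 hS H682.KB.D10.cw_ok D10.ld hq hq1 hn (e := 10) (fun i hi h1 =>
    one_of_ten hi h11 (by omega)
      (fun hn => pow_eq_mod one_ne_zero hq1 hp2 tab8 len8 (by decide) h1 H682.KB.D10.ct20 hn)
      (fun hn => pow_eq_mod one_ne_zero hq1 hp2 tab8 len8 (by decide) h1 H682.KB.D10.ct30 hn)
      (fun hn => pow_eq_mod one_ne_zero hq1 hp2 tab8 len8 (by decide) h1 H682.KB.D10.ct50 hn))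
  rw [ho] at L
  have h2 := two_le_of H hM hm H682.KB.D10.cw_ok D10.ld hq hn (by
    intro h1
    rw [h1, orderOf_one] at ho
    omega)
  constructor
  · intro hne
    have h31 := ge31 h10 hne h11
    rw [x0_eq H hM hm h11 hS H682.KB.D10.cw_ok D10.sp hq (Or.inr (by
      show 120 * 5 + 12 < p ^ 2
      nlinarith))]
    refine bound10 h10 (le_trans (Nat.add_le_add_left h2 _) ?_) h11
    exact kJ_add_reg H hM hm h11 H682.KB.D10.cw_ok D10.sp hq1 D10.ld.eb (by show 12 < p; omega) D10.cardB L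
  · intro h11' h3
    rw [x0_eq H hM hm h11 hS H682.KB.D10.cw_ok D10.sp hq (Or.inl
      (a_eq_one hm (pow_dvd_card H hS H682.KB.D10.cw_ok D10.sp hq) h3))]
    have h4 := H76.KJ.kJ_of_elt hp2 hM _ L.ord 10 5 L.fus L.rank
    subst h11'
    omega

/-- **`d = 8`** -/
theorem x0_D8 (hM : IsPModular p Mx) (h11 : 11 ≤ p) (hpF : (p : F) ≠ 0)
    (hd : orderOf (Fintype.card F : ZMod p) = 8) (f : ↥(chevE8.group F) ≃* S) :
    p + 5 ≤ 2 * x0 p Mx S := by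
  obtain ⟨m, hm, hS, hqd⟩ := exists_m h11 hd (by norm_num)
  rw [Nat.card_congr f.toEquiv] at hS
  have hq := rel8 hm hd hqd
  have hq1 := rel8 one_ne_zero hd (level_one hd)
  have hp2 : p ≠ 2 := by omega
  have h8 : 8 ∣ p - 1 := dvd_sub_one hd (by norm_num)
  obtain ⟨X, H⟩ := exists_mod h11 hpF f m (wd H682.KB.D8.cw)
  have hs : ev (Fintype.card F : ZMod (p ^ m)) (0, 0, -1, 0) = (Fintype.card F : ZMod (p ^ m)) ^ 6 :=
    ev_pow [true, true, false] hq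
  have hn : ((Fintype.card F ^ 2 : ℕ) : ZMod (p ^ m)) * ev (Fintype.card F : ZMod (p ^ m)) (0, 0, -1, 0) = 1 := by
    rw [hs, Nat.cast_pow, ← pow_add, hqd]
  have ho : orderOf ((Fintype.card F ^ 2 : ℕ) : ZMod p) = 4 := order_cast_pow hd (by norm_num)
  have L := line_of H hM hm h11 hS H682.KB.D8.cw_ok D8.ld hq hq1 hn (e := 8) (fun i hi h1 => by
    have h3 := pow_eq_mod one_ne_zero hq1 hp2 tab8 len8 (by decide) h1 H682.KB.D8.ct8 (by
      intro hn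
      have h2 : p ∈ [2, 2, 2, 2, 2, 2, 3, 3, 5] := dvd_cases (by norm_num) (by norm_num; exact hn)
      simp only [List.mem_cons, List.not_mem_nil, or_false] at h2
      omega)
    rw [Nat.cast_one, one_pow] at h3
    exact h3.symm)
  rw [ho] at L
  have h2 := two_le_of H hM hm H682.KB.D8.cw_ok D8.ld hq hn (by
    intro h1
    rw [h1, orderOf_one] at ho
    omega)
  have h17 : 17 ≤ p := by omega
  rw [x0_eq H hM hm h11 hS H682.KB.D8.cw_ok D8.sp hq (Or.inr (by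
      show 48 * 4 + 18 < p ^ 2
      nlinarith))]
  have hV : (vv (Fintype.card F : ZMod (p ^ 1)) D8.V₁ : Fin 8 → ZMod (p ^ 1)) ∈
      Lam e8T' (p ^ 1) (Fintype.card F) (AddEquiv.refl (Fin 8 → ℤ)) (wd H682.KB.D8.cw) :=
    vv_mem (fun j => chain_rep e8T' _ hA H682.KB.D8.cw_ok j) hq1 D8.sp.e1
  have hVB : (vv (Fintype.card F : ZMod (p ^ 1)) H682.KB.D8.B : Fin 8 → ZMod (p ^ 1)) ∈
      Lam e8T' (p ^ 1) (Fintype.card F) (AddEquiv.refl (Fin 8 → ℤ)) (wd H682.KB.D8.cw) :=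
    vv_mem (fun j => chain_rep e8T' _ hA H682.KB.D8.cw_ok j) hq1 D8.ld.eb
  have hN : Fact (1 < p ^ 1) := ⟨by rw [pow_one]; exact hpp.out.one_lt⟩
  have hz0 : (vv (Fintype.card F : ZMod (p ^ 1)) D8.V₁ : Fin 8 → ZMod (p ^ 1)) ≠ 0 := by
    intro h0
    have h3 : lam (vv (Fintype.card F : ZMod (p ^ 1)) D8.V₁) (vec chevE8 8 s₁) = 1 := by
      rw [lam_vv, D8.h11]
      exact ev_one
    rw [h0] at h3
    apply one_ne_zero (α := ZMod (p ^ 1))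
    rw [← h3]
    unfold lam
    simp
  have key := H76.KJ.kJ_of_elt_add hp2 hM _ L.ord 8 4 L.fus L.rank _ (orderOf_up H hm hV hz0)
    (not_conj_pow H hm hVB hV (n := 8) (by
      refine (Finset.card_le_card fun s hs => ?_).trans D8.cardV
      rw [Finset.mem_filter] at hs ⊢
      refine ⟨hs.1, fun h3 => ?_⟩
      rw [lam_vv] at hs
      exact (isUnit_of_okU one_ne_zero (by omega) hq1 h3).ne_zero hs.2) (by
      refine D8.cardB.trans_le (Finset.card_le_card fun s hs => ?_)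
      rw [Finset.mem_filter] at hs ⊢
      refine ⟨hs.1, ?_⟩
      rw [lam_vv, hs.2]
      exact ev_zero))
  obtain ⟨t, ht⟩ := h8
  rw [ht, Nat.mul_div_cancel_left _ (by norm_num)] at key
  omega

theorem not_dvd12 (h12 : 12 ∣ p - 1) {L : List ℕ} (hL : ∀ x ∈ L, x.Prime) (hL' : ∀ x ∈ L, ¬ 12 ∣ x - 1) :
    ¬ p ∣ L.prod := fun hn => hL' p (dvd_cases hL hn) h12

/-- the two lines for `d = 12` -/
theorem D12.not_ms {m : ℕ} (hm : m ≠ 0) (h12 : 12 ∣ p - 1) (hp2 : p ≠ 2) {q : ZMod (p ^ m)}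
    (hq : q ^ 4 = ev q (-1, 0, 1, 0)) {i j : ℕ} (hi : ¬ p ∣ i) (hj : ¬ p ∣ j)
    (h : ms chevE8 8 (fun n : Fin 8 => (i : ZMod (p ^ m)) * vv q H682.KB.D12.B n) =
      ms chevE8 8 (fun n : Fin 8 => (j : ZMod (p ^ m)) * vv q H682.KB.D12.B' n)) : False := by
  have e1 := pow_eq_of_ms hq hp2 tab8 len8 (K := [true, true, false, false]) (by decide) h
  have e2 := pow_eq_of_ms hq hp2 tab8 len8 (K := [true, true, false, false, false]) (by decide) h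
  rw [H682.KB.D12.ps12, H682.KB.D12.ps12', show bv [true, true, false, false] 0 = 12 from rfl] at e1
  rw [H682.KB.D12.ps24, H682.KB.D12.ps24', show bv [true, true, false, false, false] 0 = 24 from rfl] at e2
  have hu := isUnit_ev hm hq H682.KB.D12.ctx (by
    rw [Int.natCast_dvd]
    exact not_dvd12 h12
      (L := [2, 2, 2, 2, 2, 2, 2, 2, 2, 2, 2, 2, 2, 3, 3, 3, 3, 3, 3, 3, 3, 5, 5, 5, 7, 7, 7, 11, 19, 199])
      (by norm_num) (by decide))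
  rw [ev_add, ev_sm, ev_mul hq, ev_mul hq, ev_mul hq, ev_mul hq] at hu
  have hui : IsUnit (i : ZMod (p ^ m)) := by
    have h2 := isUnit_int (p := p) hm (n := (i : ℤ)) (by rwa [Int.natCast_dvd_natCast])
    simpa using h2
  have huj : IsUnit (j : ZMod (p ^ m)) := by
    have h2 := isUnit_int (p := p) hm (n := (j : ℤ)) (by rwa [Int.natCast_dvd_natCast])
    simpa using h2
  have hall := ((hui.pow 24).mul (huj.pow 24)).mul hu
  have : Nontrivial (ZMod (p ^ m)) := by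
    have : Fact (1 < p ^ m) := ⟨Nat.one_lt_pow hm hpp.out.one_lt⟩
    infer_instance
  exact hall.ne_zero (cross e1 e2)

/-- **`d = 12`** -/
theorem x0_D12 (hM : IsPModular p Mx) (h11 : 11 ≤ p) (hpF : (p : F) ≠ 0)
    (hd : orderOf (Fintype.card F : ZMod p) = 12) (f : ↥(chevE8.group F) ≃* S)
    (h13 : p = 13 → ¬ p ^ 3 ∣ Nat.card S) :
    p + 5 ≤ 2 * x0 p Mx S := by
  obtain ⟨m, hm, hS, hqd⟩ := exists_m h11 hd (by norm_num)
  rw [Nat.card_congr f.toEquiv] at hS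
  have hq := rel12 hm hd hqd
  have hq1 := rel12 one_ne_zero hd (level_one hd)
  have hp2 : p ≠ 2 := by omega
  have h12 : 12 ∣ p - 1 := dvd_sub_one hd (by norm_num)
  obtain ⟨X, H⟩ := exists_mod h11 hpF f m (wd H682.KB.D12.cw)
  have hs : ev (Fintype.card F : ZMod (p ^ m)) (0, 0, 0, 1) = (Fintype.card F : ZMod (p ^ m)) ^ 3 :=
    ev_pow [true, true] hq
  have hs' : ev (Fintype.card F : ZMod (p ^ m)) (-1, 0, 1, 0) = (Fintype.card F : ZMod (p ^ m)) ^ 4 :=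
    ev_pow [true, false, false] hq
  have hn : ((Fintype.card F ^ 9 : ℕ) : ZMod (p ^ m)) * ev (Fintype.card F : ZMod (p ^ m)) (0, 0, 0, 1) = 1 := by
    rw [hs, Nat.cast_pow, ← pow_add, hqd]
  have hn' : ((Fintype.card F ^ 8 : ℕ) : ZMod (p ^ m)) * ev (Fintype.card F : ZMod (p ^ m)) (-1, 0, 1, 0) = 1 := by
    rw [hs', Nat.cast_pow, ← pow_add, hqd]
  have ho : orderOf ((Fintype.card F ^ 9 : ℕ) : ZMod p) = 4 := order_cast_pow hd (by norm_num)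
  have ho' : orderOf ((Fintype.card F ^ 8 : ℕ) : ZMod p) = 3 := order_cast_pow hd (by norm_num)
  have L := line_of H hM hm h11 hS H682.KB.D12.cw_ok D12.ld hq hq1 hn (e := 12) (fun i hi h1 => by
    have h3 := pow_eq_mod one_ne_zero hq1 hp2 tab8 len8 (by decide) h1 H682.KB.D12.ct12
      (not_dvd12 h12 (L := [2, 2, 2, 2, 2, 3, 3, 3, 5, 7]) (by norm_num) (by decide))
    rw [Nat.cast_one, one_pow] at h3
    exact h3.symm)
  have L' := line_of H hM hm h11 hS H682.KB.D12.cw_ok D12.ld' hq hq1 hn' (e := 12) (fun i hi h1 => by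
    have h3 := pow_eq_mod one_ne_zero hq1 hp2 tab8 len8 (by decide) h1 H682.KB.D12.ct12'
      (not_dvd12 h12 (L := [2, 2, 2, 2, 3, 3, 3, 3, 5, 7]) (by norm_num) (by decide))
    rw [Nat.cast_one, one_pow] at h3
    exact h3.symm)
  rw [ho] at L
  rw [ho'] at L'
  have h2 := two_le_of H hM hm H682.KB.D12.cw_ok D12.ld hq hn (by
    intro h1
    rw [h1, orderOf_one] at ho
    omega)
  have hB : (vv (Fintype.card F : ZMod (p ^ 1)) H682.KB.D12.B : Fin 8 → ZMod (p ^ 1)) ∈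
      Lam e8T' (p ^ 1) (Fintype.card F) (AddEquiv.refl (Fin 8 → ℤ)) (wd H682.KB.D12.cw) :=
    vv_mem (fun j => chain_rep e8T' _ hA H682.KB.D12.cw_ok j) hq1 D12.ld.eb
  have hB' : (vv (Fintype.card F : ZMod (p ^ 1)) H682.KB.D12.B' : Fin 8 → ZMod (p ^ 1)) ∈
      Lam e8T' (p ^ 1) (Fintype.card F) (AddEquiv.refl (Fin 8 → ℤ)) (wd H682.KB.D12.cw) :=
    vv_mem (fun j => chain_rep e8T' _ hA H682.KB.D12.cw_ok j) hq1 D12.ld'.eb
  have hx0 : x0 p Mx S = kJ p Mx S := by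
    apply x0_eq H hM hm h11 hS H682.KB.D12.cw_ok D12.sp hq
    by_cases h : p = 13
    · exact Or.inl (a_eq_one hm (pow_dvd_card H hS H682.KB.D12.cw_ok D12.sp hq) (h13 h))
    · right
      have h25 : p ≠ 25 := by
        rintro rfl
        exact absurd hpp.out (by norm_num)
      have h37 : 37 ≤ p := by omega
      show 72 * 4 + 14 < p ^ 2
      nlinarith
  rw [hx0]
  have key := H76.KJ.kJ_of_two hp2 hM _ _ L.ord L'.ord 12 12 4 3 L.fus L'.fus (fun g i hh => by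
    have hpi : ¬ p ∣ i := by
      intro hpi
      have h6 := orderOf_dvd_iff_pow_eq_one.1 (show orderOf (X (up p m (vv (Fintype.card F : ZMod (p ^ 1))
        H682.KB.D12.B'))) ∣ i by rw [L'.ord]; exact hpi)
      rw [h6, mul_inv_eq_one, mul_eq_left] at hh
      have h3 := L.ord
      rw [hh, orderOf_one] at h3
      exact hpp.out.one_lt.ne h3
    have h3 := X_nsmul (H.down hm) hB' i
    have h4 : IsConj (X (up p m (vv (Fintype.card F : ZMod (p ^ 1)) H682.KB.D12.B)))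
        (X (up p m ((i : ZMod (p ^ 1)) • vv (Fintype.card F : ZMod (p ^ 1)) H682.KB.D12.B'))) := by
      rw [isConj_iff]
      exact ⟨g, by rw [hh]; exact h3.symm⟩
    have h5 := ms_of_conj (H.down hm) hB (Lam.smul e8T' (i : ZMod (p ^ 1)) hB') h4
    refine D12.not_ms one_ne_zero h12 hp2 hq1 (i := 1) (j := i) (fun h => ?_) hpi ?_
    · exact hpp.out.one_lt.ne (Nat.dvd_one.1 h).symm
    · rw [show (fun n : Fin 8 => ((1 : ℕ) : ZMod (p ^ 1)) * vv (Fintype.card F : ZMod (p ^ 1)) H682.KB.D12.B n) =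
        vv (Fintype.card F : ZMod (p ^ 1)) H682.KB.D12.B from funext fun n => by rw [Nat.cast_one, one_mul]]
      exact h5) L.rank L'.rank
  obtain ⟨t, ht⟩ := h12
  rw [ht, Nat.mul_div_cancel_left _ (by norm_num)] at key
  omega

/-- **`E₈(q)`, `q` of order 5, 8, 10, 12 modulo `p`.** -/
theorem x0_E8_rank2 (hM : IsPModular p Mx) (h11 : 11 ≤ p) (hpF : (p : F) ≠ 0) {d : ℕ}
    (hd : orderOf (Fintype.card F : ZMod p) = d) (hd4 : d = 5 ∨ d = 8 ∨ d = 10 ∨ d = 12)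
    (hS : Nonempty (S ≃* ↥(chevE8.group F))) :
    (d ≠ 8 ∧ p = 11 ∨ d = 12 ∧ p = 13 ∧ p ^ 3 ∣ Nat.card S ∨ p + 5 ≤ 2 * x0 p Mx S) ∧
      (p = 11 → ¬ p ^ 3 ∣ Nat.card S → 7 ≤ x0 p Mx S) := by
  obtain ⟨f⟩ := hS
  rcases hd4 with rfl | rfl | rfl | rfl
  · obtain ⟨h1, h2⟩ := x0_D5 hM h11 hpF hd f.symm
    refine ⟨?_, h2⟩
    by_cases h : p = 11
    · exact Or.inl ⟨by norm_num, h⟩
    · exact Or.inr (Or.inr (h1 h))
  · have h1 := x0_D8 hM h11 hpF hd f.symm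
    exact ⟨Or.inr (Or.inr h1), fun _ _ => by omega⟩
  · obtain ⟨h1, h2⟩ := x0_D10 hM h11 hpF hd f.symm
    refine ⟨?_, h2⟩
    by_cases h : p = 11
    · exact Or.inl ⟨by norm_num, h⟩
    · exact Or.inr (Or.inr (h1 h))
  · have h12 : 12 ∣ p - 1 := dvd_sub_one hd (by norm_num)
    refine ⟨?_, fun h => by omega⟩
    by_cases h : p = 13 ∧ p ^ 3 ∣ Nat.card S
    · exact Or.inr (Or.inl ⟨rfl, h⟩)
    · exact Or.inr (Or.inr (x0_D12 hM h11 hpF hd f.symm fun h3 h4 => h ⟨h3, h4⟩))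

end Cfsg.Agent.H208.XR
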