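import Cfsg.Agent.H440.TD4.Model
import Cfsg.Agent.H352.KE.Frame

/-!
# The torus model modulo `N = p ^ a` (S4791, S4927; helper208)

The setting of `H440.TD4.Model` (`σ` a frame automorphism of Frobenius type of `D.group k`, `f : G →* D.group k` injective, onto
the fixed points of `σ`), with the elements of order dividing `N = p ^ a` instead of `p`, `p` prime to `|W|`.

`ModelN hp N Q g w X` :
* `add`, `inj`, `act` as in `Model`;
* `fus` : SIMULTANEOUS fusion: if `h` conjugates the family `X (c i)` to the family `X (c' i)` then one element `w'` of the Weyl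
  group satisfies `c' i ∘ w' = c i` for all `i`;
* `reg` : if no root vanishes on `c` then only the trivial element of the Weyl group fixes `c`;
* `cen` : if all roots which vanish on `c'` vanish on `c` then the elements which commute with `X c'` commute with `X c`;
* `tw` : `g` normalises the Weyl group.

`card_normalizer_le`, `le_reg` : `P = {X c}`: `|N(P)| ≤ |C(P)| n` if at most `n` elements of the Weyl group commute with
`θ = rep w ∘ g`; the elements `X c` with `c` regular (no root vanishes on `c`) satisfy `C_N(X c) ≤ C(P)`; `height_hyp` is the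
hypothesis of `H603.AP.x0_eq_kJ_of_reg`.
-/

set_option autoImplicit false
set_option linter.unusedSectionVars false

namespace Cfsg.Agent.H208.XR

open CoxeterSystem Cfsg Cfsg.Lie Cfsg.Lie.ChevalleyDatum
open Cfsg.Agent.ChevalleyStructure Cfsg.Agent.ChevalleyStructure.Elts Cfsg.Agent.ChevalleyStructure.CoxeterGeom
  Cfsg.Agent.ChevalleyStructure.CoxeterGeomTypes Cfsg.Agent.ChevalleyStructure.NPerm
open Cfsg.Agent.Tits.Roots Cfsg.Agent.Tits.Core Cfsg.Agent.Nodes Cfsg.Agent.Nodes.Reps Cfsg.Agent.Nodes.BNOf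
  Cfsg.Agent.Nodes.RGDChev Cfsg.Agent.Nodes.Bruhat
open Cfsg.Agent.KFacts.RgdField Cfsg.Agent.KFacts.RgdChevCoord Cfsg.Agent.BpExc.TorCent Cfsg.Agent.BpExc.TorChev
open Cfsg.Agent.GpExc.Field Cfsg.Agent.BpExc.Tow Cfsg.Agent.BpExc.TowChev Cfsg.Agent.BpExc.Fr
  Cfsg.Agent.BpExc.LangFr Cfsg.Agent.H795.SetCent Cfsg.Agent.H795.Toral Cfsg.Agent.H795.Core
  Cfsg.Agent.H795.RootConn Cfsg.Agent.H795.SetTor Cfsg.Agent.H129.TorusChar Cfsg.Agent.H129.TorusUntw
  Cfsg.Agent.H129.WData Cfsg.Agent.H795.Reduce Cfsg.Agent.H795.LangT Cfsg.Agent.H123.ExcZ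
  Cfsg.Agent.BpExc Cfsg.Agent.H210.EL Cfsg.Agent.H352.KE Cfsg.Agent.H440.TD4

universe u v

variable {D : ChevalleyDatum} {l : ℕ} {M : CoxeterMatrix (Fin l)} (hp : IsType D l M)

/-- The model of the elements of a torus of order dividing `N`. -/
structure ModelN (hp : IsType D l M) (N Q : ℕ) (g : (Fin l → ℤ) ≃+ (Fin l → ℤ)) (w : M.Group) {G : Type v} [Group G]
    (X : (Fin l → ZMod N) → G) : Prop where
  add : ∀ c ∈ Lam hp N Q g w, ∀ c' ∈ Lam hp N Q g w, X (c + c') = X c * X c'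
  inj : ∀ c ∈ Lam hp N Q g w, X c = 1 → c = 0
  act : ∀ v : M.Group, (∀ x, rep M.toCoxeterSystem hp.isCartan v (rep M.toCoxeterSystem hp.isCartan w (g x)) =
      rep M.toCoxeterSystem hp.isCartan w (g (rep M.toCoxeterSystem hp.isCartan v x))) →
    ∃ m : G, ∀ c ∈ Lam hp N Q g w, ∀ c' ∈ Lam hp N Q g w,
      (∀ x, lam c' (rep M.toCoxeterSystem hp.isCartan v x) = lam c x) → m * X c * m⁻¹ = X c'
  fus : ∀ {ι : Type} [Finite ι] (c c' : ι → Fin l → ZMod N), (∀ i, c i ∈ Lam hp N Q g w) →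
    (∀ i, c' i ∈ Lam hp N Q g w) → ∀ h : G, (∀ i, h * X (c i) * h⁻¹ = X (c' i)) →
    ∃ w' : M.Group, ∀ i x, lam (c' i) (rep M.toCoxeterSystem hp.isCartan w' x) = lam (c i) x
  reg : ∀ (w' : M.Group) (c : Fin l → ZMod N), (∀ s : Fin D.nroots, lam c (vec D l s) ≠ 0) →
    (∀ x, lam c (rep M.toCoxeterSystem hp.isCartan w' x) = lam c x) → w' = 1
  cen : ∀ c ∈ Lam hp N Q g w, ∀ c' ∈ Lam hp N Q g w,
    (∀ s : Fin D.nroots, lam c' (vec D l s) = 0 → lam c (vec D l s) = 0) →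
    ∀ h : G, h * X c' = X c' * h → h * X c = X c * h
  tw : ∀ v : M.Group, ∃ v' : M.Group, ∀ x, rep M.toCoxeterSystem hp.isCartan v' (g x) =
    g (rep M.toCoxeterSystem hp.isCartan v x)

section

variable {k : Type u} [Field k] [IsAlgClosed k] {r e : ℕ} [hr : Fact r.Prime] [CharP k r] (hk : LocFin k)
  {σ : MulAut ↥(D.group k)} {g : (Fin l → ℤ) ≃+ (Fin l → ℤ)}

include hp hr hk in
/-- families of elements of the torus which are conjugate in `D.group k` are conjugate under the Weyl group -/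
theorem exists_weyl_family {ι : Type} [Finite ι] {s t : ι → ↥(D.group k)} {c : ↥(D.group k)}
    (hs : ∀ i, s i ∈ TT D k) (ht : ∀ i, t i ∈ TT D k) (hc : ∀ i, c * s i = t i * c) :
    ∃ w : M.Group, ∀ i x, cX hp (t i) (rep M.toCoxeterSystem hp.isCartan w x) = cX hp (s i) x := by
  have hWf := finite_W hp (M.toCoxeterSystem)
  have H := tow hp M.toCoxeterSystem hk r
  have C : Coords M.toCoxeterSystem hp.isCartan (TL (Tj hp (k := k))) (nc hp k) (XL (Xj hp)) (xc hp) (ch hp) := by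
    rw [TL_eq hp hk, XL_eq hp hk]
    exact coordsL hp M.toCoxeterSystem hk r
  have hGt := GG_eq_top hp M.toCoxeterSystem hk
  have hTL := TL_eq (k := k) hp hk
  obtain ⟨m, hm, w, n, hn, hns, -⟩ := exists_form' H C (ι := ι) (s := s) (t := t)
    (fun i => by rw [hTL]; exact hs i) (fun i => by rw [hTL]; exact ht i) (c := c)
    (by rw [hGt]; exact Subgroup.mem_top _) hc
  refine ⟨w, fun i x => ?_⟩
  rw [← cX_rp' hp hk hn (hs i) x, hns i, mul_inv_cancel_right]

include hp in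
theorem TT_comm {s t : ↥(D.group k)} (hs : s ∈ TT D k) (ht : t ∈ TT D k) : s * t = t * s := by
  refine cX_inj hp (mul_mem hs ht) (mul_mem ht hs) fun i => ?_
  rw [cX_mul hp hs ht, cX_mul hp ht hs, mul_comm]

include hr hk in
/-- an element of the Weyl group fixing the characters of one `p`-element on which no root is trivial -/
theorem eq_one_of_reg {p : ℕ} (hpp : p.Prime) (hW : ¬ p ∣ Nat.card M.Group) {t : ↥(D.group k)} (ht : t ∈ TT D k)
    (htp : ∃ m : ℕ, t ^ p ^ m = 1) (hroot : ∀ s : Fin D.nroots, cX hp t (vec D l s) ≠ 1) {w : M.Group}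
    (hw : ∀ x, cX hp t (rep M.toCoxeterSystem hp.isCartan w x) = cX hp t x) : w = 1 := by
  have hWf := finite_W hp (M.toCoxeterSystem)
  have H := tow (k := k) hp M.toCoxeterSystem hk r
  have hTL := TL_eq (k := k) hp hk
  have hXL := XL_eq (k := k) hp hk
  have C : Coords M.toCoxeterSystem hp.isCartan (TL (Tj hp (k := k))) (nc hp k) (XL (Xj hp)) (xc hp) (ch hp) := by
    rw [TL_eq hp hk, XL_eq hp hk]
    exact coordsL hp M.toCoxeterSystem hk r
  have hA : ChAdd M.toCoxeterSystem hp.isCartan (TL (Tj hp (k := k))) (ch (K := k) hp) := by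
    rw [hTL]; exact chAddL (k := k) hp M.toCoxeterSystem hk r
  have hZ : ({t} : Set ↥(D.group k)) ⊆ TL (Tj hp (k := k)) := by
    rw [hTL]
    exact Set.singleton_subset_iff.2 ht
  have hZp : ∀ t' ∈ ({t} : Set ↥(D.group k)), ∃ m : ℕ, t' ^ p ^ m = 1 := by
    intro t' ht'
    rw [Set.mem_singleton_iff.1 ht']
    exact htp
  have hwC : w ∈ CW M.toCoxeterSystem hp.isCartan (ch hp) ({t} : Set ↥(D.group k)) := by
    intro a ha t' ht'
    rw [Set.mem_singleton_iff.1 ht', ← cX_root hp M.toCoxeterSystem ht (ha.act w), ← cX_root hp M.toCoxeterSystem ht ha]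
    exact hw a
  by_contra hne
  obtain ⟨q, hq, hqd⟩ := Nat.exists_prime_and_dvd (fun h => hne (orderOf_eq_one_iff.1 h) : orderOf w ≠ 1)
  have h2 : orderOf (w ^ (orderOf w / q)) = q := by
    rw [orderOf_pow_of_dvd (Nat.div_pos (Nat.le_of_dvd (orderOf_pos w) hqd) hq.pos).ne' (Nat.div_dvd_of_dvd hqd),
      Nat.div_div_self hqd (orderOf_pos w).ne']
  have h3 : q = p := prime_of_PPZ C hA hZ hpp hZp (pow_mem hwC _) (by
    rintro a ⟨ha, ha1⟩ -
    exfalso
    obtain ⟨s, hs, rfl⟩ := (isRoot_iff hp M.toCoxeterSystem a).1 ha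
    refine hroot ⟨s, hs⟩ ?_
    rw [cX_root hp M.toCoxeterSystem ht ha]
    exact ha1 t rfl) hq h2
  exact hW (h3 ▸ hqd.trans (orderOf_dvd_natCard w))

include hr hk in
/-- centralisers of `p`-elements of the torus, compared by the roots which are trivial on them -/
theorem comm_of_roots {p : ℕ} (hpp : p.Prime) (hW : ¬ p ∣ Nat.card M.Group) {t t' : ↥(D.group k)} (ht : t ∈ TT D k)
    (ht' : t' ∈ TT D k) (htp : ∃ m : ℕ, t' ^ p ^ m = 1)
    (hroot : ∀ s : Fin D.nroots, cX hp t' (vec D l s) = 1 → cX hp t (vec D l s) = 1) {c : ↥(D.group k)}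
    (hc : c * t' = t' * c) : c * t = t * c := by
  have hWf := finite_W hp (M.toCoxeterSystem)
  have H := tow (k := k) hp M.toCoxeterSystem hk r
  have hTL := TL_eq (k := k) hp hk
  have hXL := XL_eq (k := k) hp hk
  have C : Coords M.toCoxeterSystem hp.isCartan (TL (Tj hp (k := k))) (nc hp k) (XL (Xj hp)) (xc hp) (ch hp) := by
    rw [TL_eq hp hk, XL_eq hp hk]
    exact coordsL hp M.toCoxeterSystem hk r
  have hA : ChAdd M.toCoxeterSystem hp.isCartan (TL (Tj hp (k := k))) (ch (K := k) hp) := by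
    rw [hTL]; exact chAddL (k := k) hp M.toCoxeterSystem hk r
  have hG := GG_eq_top (k := k) hp M.toCoxeterSystem hk
  have hsub : ∀ {t : ↥(D.group k)}, t ∈ TT D k → ({t} : Set ↥(D.group k)) ⊆ TL (Tj hp (k := k)) := by
    intro t ht
    rw [hTL]
    exact Set.singleton_subset_iff.2 ht
  have hW2 : ¬ p ^ 2 ∣ Nat.card M.Group := fun h => hW (dvd_trans (dvd_pow_self p two_ne_zero) h)
  obtain ⟨m, hm, t0, ht0, rfl⟩ := exists_form_MMT H C hG hA (Z := {t'}) (Set.finite_singleton t') (hsub ht') hpp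
    (fun z hz => by rw [Set.mem_singleton_iff.1 hz]; exact htp) hW2 (tors_of_not_dvd hW) (c := c)
    (fun z hz => by rw [Set.mem_singleton_iff.1 hz]; exact hc)
  have h1 : m ∈ Subgroup.centralizer ({t} : Set ↥(D.group k)) := by
    refine MMZ_le_centralizer C (hsub ht) (RGD.Sup_mono ?_ hm)
    rintro a ⟨ha, ha1⟩
    refine ⟨ha, fun z hz => ?_⟩
    rw [Set.mem_singleton_iff.1 hz]
    obtain ⟨s, hs, rfl⟩ := (isRoot_iff hp M.toCoxeterSystem a).1 ha
    rw [← cX_root hp M.toCoxeterSystem ht ha]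
    refine hroot ⟨s, hs⟩ ?_
    rw [cX_root hp M.toCoxeterSystem ht' ha]
    exact ha1 t' rfl
  have h2 := Subgroup.mem_centralizer_singleton_iff.1 h1
  rw [hTL] at ht0
  rw [mul_assoc, TT_comm hp ht0 ht, ← mul_assoc, h2, mul_assoc]

include hr hk in
/-- a frame automorphism normalises the Weyl group -/
theorem exists_tw {d : ℕ} {B : Fin l → Fin l → ℤ} (hB : InvC D l d B) (hd : d ≠ 0) (hσ : IsFrob r e σ)
    (F : Fr M.toCoxeterSystem hp.isCartan (TT D k) (XX D l k) σ g) (v : M.Group) : ∃ v' : M.Group,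
    ∀ x, rep M.toCoxeterSystem hp.isCartan v' (g x) = g (rep M.toCoxeterSystem hp.isCartan v x) := by
  obtain ⟨n, hn⟩ := exists_rp M.toCoxeterSystem (tow hp M.toCoxeterSystem hk r).nsys v
  have hnT : ∀ t ∈ TT D k, n * t * n⁻¹ ∈ TT D k := fun t ht => rp_conj_mem hp hk hn ht
  have hσT : ∀ s, σ s ∈ TT D k ↔ s ∈ TT D k := F.tor
  obtain ⟨w, hw⟩ := exists_rp_of_normalizes hp hk (r := r) (c := σ n) (fun t ht => by
    have h1 : σ⁻¹ t ∈ TT D k := by rw [← hσT, MulAut.apply_inv_self]; exact ht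
    have h2 := (hσT _).2 (hnT _ h1)
    rwa [map_mul, map_mul, map_inv, MulAut.apply_inv_self] at h2)
  refine ⟨w, fun x => ?_⟩
  refine cX_sep hp (k := k) hB hd fun t' ht' => ?_
  obtain ⟨t, ht, rfl⟩ : ∃ t ∈ TT D k, t' = σ (n * t * n⁻¹) := by
    have h1 : σ⁻¹ t' ∈ TT D k := by rw [← hσT, MulAut.apply_inv_self]; exact ht'
    refine ⟨n⁻¹ * σ⁻¹ t' * n, ?_, ?_⟩
    · have h2 := rp_conj_mem hp hk hn.inv h1
      rwa [inv_inv] at h2
    · have h2 : n * (n⁻¹ * σ⁻¹ t' * n) * n⁻¹ = σ⁻¹ t' := by group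
      rw [h2, MulAut.apply_inv_self]
  have h1 : cX hp (σ (n * t * n⁻¹)) (g (rep M.toCoxeterSystem hp.isCartan v x)) = cX hp t x ^ r ^ e := by
    rw [cX_sigma hp M.toCoxeterSystem hσ F (hnT t ht), cX_rp' hp hk hn ht]
  have h2 : cX hp (σ (n * t * n⁻¹)) (rep M.toCoxeterSystem hp.isCartan w (g x)) = cX hp t x ^ r ^ e := by
    rw [map_mul, map_mul, map_inv, cX_rp' hp hk hw ((hσT t).2 ht), cX_sigma hp M.toCoxeterSystem hσ F ht]
  rw [h1, h2]

include hk in
/-- **The torus model modulo `N = p ^ a`.** -/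
theorem exists_modelN {p a : ℕ} [hpp : Fact p.Prime] (hpr : p ≠ r) (hW : ¬ p ∣ Nat.card M.Group) {d : ℕ}
    {B : Fin l → Fin l → ℤ} (hB : InvC D l d B)
    (hd : d ≠ 0) (he : 0 < e) (hσ : IsFrob r e σ)
    (F0 : Fr M.toCoxeterSystem hp.isCartan (TT D k) (XX D l k) σ g) {G : Type v} [Group G] {f : G →* ↥(D.group k)}
    (hinj : Function.Injective f) (hrange : ∀ y, σ y = y → ∃ x, f x = y) (w : M.Group) :
    ∃ X : (Fin l → ZMod (p ^ a)) → G, ModelN hp (p ^ a) (r ^ e) g w X := by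
  classical
  have hp1 : p.Prime := hpp.out
  have hNz : NeZero (p ^ a) := ⟨pow_ne_zero _ hp1.ne_zero⟩
  -- the root of unity
  have hpk' : (p : k) ≠ 0 := by
    intro h
    have h1 := (CharP.cast_eq_zero_iff k r p).1 h
    exact hpr.symm ((Nat.prime_dvd_prime_iff_eq hr.out hp1).1 h1)
  have hpk : ((p ^ a : ℕ) : k) ≠ 0 := by
    rw [Nat.cast_pow]
    exact pow_ne_zero _ hpk'
  have : NeZero ((p ^ a : ℕ) : k) := ⟨hpk⟩
  obtain ⟨ζ, hζ⟩ := HasEnoughRootsOfUnity.exists_primitiveRoot k (p ^ a)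
  have hζp : ζ ^ (p ^ a) = 1 := hζ.pow_eq_one
  have hζinj : ∀ x y : ZMod (p ^ a), ζ ^ x.val = ζ ^ y.val → x = y := fun x y h => pow_val_inj hζ h
  -- the torus elements
  have hex : ∀ c : Fin l → ZMod (p ^ a), ∃ t ∈ TT D k, ∀ x, cX hp t x = chm ζ c x := fun c =>
    exists_cX hp (k := k) hB hd (isMC_chm hζp c) (fun i => IsAlgClosed.exists_pow_nat_eq _ (Nat.pos_of_ne_zero hd))
  choose t ht hX using hex
  have ht_add : ∀ c c', t (c + c') = t c * t c' := by
    intro c c'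
    refine cX_inj hp (ht _) (mul_mem (ht _) (ht _)) fun i => ?_
    rw [cX_mul hp (ht _) (ht _), hX, hX, hX]
    unfold chm
    rw [lam_add_left, pow_val_add' hζp]
  have ht_pow : ∀ c, t c ^ (p ^ a) = 1 := by
    intro c
    refine cX_inj hp (pow_mem (ht c) _) (one_mem _) fun i => ?_
    rw [cX_pow hp (ht c), cX_one, hX]
    unfold chm
    rw [← pow_mul, mul_comm, pow_mul, hζp, one_pow]
  have ht_eq : ∀ c c' : Fin l → ZMod (p ^ a), (∀ x, lam c x = lam c' x) → c = c' := by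
    intro c c' h
    funext i
    have := h (sr i)
    rwa [lam_sr, lam_sr] at this
  have hroot : ∀ (c : Fin l → ZMod (p ^ a)) (x : Fin l → ℤ), cX hp (t c) x = 1 ↔ lam c x = 0 := by
    intro c x
    rw [hX]
    unfold chm
    constructor
    · intro h
      exact hζinj _ _ (by rw [h, ZMod.val_zero, pow_zero])
    · intro h
      rw [h, ZMod.val_zero, pow_zero]
  -- the frame automorphism
  have H := tow hp M.toCoxeterSystem hk r
  obtain ⟨nw, hnw⟩ := exists_rp M.toCoxeterSystem H.nsys w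
  obtain ⟨u, hu⟩ := lang_all hp M.toCoxeterSystem he hσ F0 1 nw
  have hu' : nw = u⁻¹ * σ u := by
    rw [map_one, one_mul] at hu
    exact hu
  have Fr1 : Fr M.toCoxeterSystem hp.isCartan (TT D k) (XX D l k) (ct σ u)
      (g.trans (repAut M.toCoxeterSystem hp.isCartan w)) := by
    have h1 := Fr.conj H (by rw [hu'] at hnw; exact hnw : Rp M.toCoxeterSystem H.nsys w (u⁻¹ * σ u))
    rw [TL_eq hp hk, XL_eq hp hk] at h1
    exact h1.mul F0
  have hσ1 : IsFrob r e (ct σ u) := hσ.conj_mul _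
  have hg1 : ∀ x, (g.trans (repAut M.toCoxeterSystem hp.isCartan w)) x =
      rep M.toCoxeterSystem hp.isCartan w (g x) := fun x => rfl
  -- fixed
  have hfixt : ∀ c ∈ Lam hp (p ^ a) (r ^ e) g w, ct σ u (t c) = t c := by
    intro c hcw
    refine cX_inj hp ((Fr1.tor (t c)).2 (ht c)) (ht c) fun i => ?_
    obtain ⟨y, hy⟩ := (g.trans (repAut M.toCoxeterSystem hp.isCartan w)).surjective (sr i)
    rw [← hy, cX_sigma hp M.toCoxeterSystem hσ1 Fr1 (ht c), hX, hX, hg1]
    unfold chm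
    rw [hcw y, pow_val_cast' hζp]
  -- back in the finite group
  have hback : ∀ {t : ↥(D.group k)}, ct σ u t = t → ∃ x : G, f x = u * t * u⁻¹ := by
    intro t ht
    exact hrange _ (ct_fix.1 ht)
  have hexX : ∀ c : Fin l → ZMod (p ^ a), ∃ x : G, c ∈ Lam hp (p ^ a) (r ^ e) g w → f x = u * t c * u⁻¹ := by
    intro c
    by_cases hc : c ∈ Lam hp (p ^ a) (r ^ e) g w
    · obtain ⟨x, hx⟩ := hback (hfixt c hc)
      exact ⟨x, fun _ => hx⟩
    · exact ⟨1, fun h => absurd h hc⟩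
  choose X hXf using hexX
  refine ⟨X, ?_, ?_, ?_, ?_, ?_, ?_, exists_tw hp (r := r) hk hB hd hσ F0⟩
  · intro c hc c' hc'
    apply hinj
    rw [map_mul, hXf _ (Lam.add hp hc hc'), hXf _ hc, hXf _ hc', ht_add]
    group
  · intro c hc h1
    have h2 := hXf _ hc
    rw [h1, map_one] at h2
    have h3 : t c = 1 := by
      have h4 : u * t c * u⁻¹ = 1 := h2.symm
      rwa [conj_eq_one_iff] at h4
    refine ht_eq _ _ fun x => ?_
    have h4 := hroot c x
    rw [h3, cX_one] at h4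
    rw [show lam (0 : Fin l → ZMod (p ^ a)) x = 0 by unfold lam; simp]
    exact h4.1 rfl
  · intro v hv
    obtain ⟨m, hm, hmf⟩ := exists_fixed_lift hp hk hB hd he hσ1 Fr1 hv
    obtain ⟨n, hn⟩ := hback hmf
    refine ⟨n, fun c hc c' hc' hcc => ?_⟩
    apply hinj
    rw [map_mul, map_mul, map_inv, hXf _ hc, hXf _ hc', hn]
    have h1 : m * t c * m⁻¹ = t c' := by
      refine cX_inj hp (rp_conj_mem hp hk hm (ht c)) (ht c') fun i => ?_
      obtain ⟨y', hy'⟩ := (repAut M.toCoxeterSystem hp.isCartan v).surjective (sr i)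
      have hy : rep M.toCoxeterSystem hp.isCartan v y' = sr i := hy'
      rw [← hy, cX_rp' hp hk hm (ht c), hX, hX]
      unfold chm
      rw [hcc]
    calc u * m * u⁻¹ * (u * t c * u⁻¹) * (u * m * u⁻¹)⁻¹ = u * (m * t c * m⁻¹) * u⁻¹ := by group
      _ = u * t c' * u⁻¹ := by rw [h1]
  · intro ι _ c c' hc hc' h hh
    obtain ⟨w', hw'⟩ := exists_weyl_family (r := r) hp hk (s := fun i => t (c i)) (t := fun i => t (c' i))
      (fun i => ht (c i)) (fun i => ht (c' i)) (c := u⁻¹ * f h * u) (by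
      intro i
      have h1 := congrArg f (hh i)
      rw [map_mul, map_mul, map_inv, hXf _ (hc i), hXf _ (hc' i)] at h1
      calc u⁻¹ * f h * u * t (c i) = u⁻¹ * (f h * (u * t (c i) * u⁻¹) * (f h)⁻¹) * f h * u := by group
        _ = u⁻¹ * (u * t (c' i) * u⁻¹) * f h * u := by rw [h1]
        _ = t (c' i) * (u⁻¹ * f h * u) := by group)
    refine ⟨w', fun i x => hζinj _ _ ?_⟩
    have h2 := hw' i x
    rw [hX, hX] at h2
    exact h2
  · intro w' c hc hw'
    refine eq_one_of_reg hp (r := r) hk hp1 hW (ht c) ⟨a, ht_pow c⟩ (fun s h => hc s ((hroot c _).1 h)) fun x => ?_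
    rw [hX, hX]
    unfold chm
    rw [hw']
  · intro c hc c' hc' hr' h hh
    apply hinj
    rw [map_mul, map_mul, hXf _ hc]
    have h1 := congrArg f hh
    rw [map_mul, map_mul, hXf _ hc'] at h1
    have h2 := comm_of_roots hp (r := r) hk hp1 hW (t := t c) (t' := t c') (ht c) (ht c') ⟨a, ht_pow c'⟩
      (fun s h => (hroot c _).2 (hr' s ((hroot c' _).1 h))) (c := u⁻¹ * f h * u) (by
        calc u⁻¹ * f h * u * t c' = u⁻¹ * (f h * (u * t c' * u⁻¹)) * u := by group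
          _ = u⁻¹ * (u * t c' * u⁻¹ * f h) * u := by rw [h1]
          _ = t c' * (u⁻¹ * f h * u) := by group)
    calc f h * (u * t c * u⁻¹) = u * (u⁻¹ * f h * u * t c) * u⁻¹ := by group
      _ = u * (t c * (u⁻¹ * f h * u)) * u⁻¹ := by rw [h2]
      _ = u * t c * u⁻¹ * f h := by group

end

include hp in
/-- **The torus model of an untwisted group, modulo `p ^ a`** (the root lattice is the weight lattice: `G₂`, `F₄`, `E₈`). -/
theorem exists_modelN_untw {F : Type u} [Field F] [Fintype F] {p a : ℕ} [hpp : Fact p.Prime] (hpF : (p : F) ≠ 0)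
    (hW : ¬ p ∣ Nat.card M.Group) {B : Fin l → Fin l → ℤ} (hB : InvC D l 1 B) (w : M.Group) :
    ∃ X : (Fin l → ZMod (p ^ a)) → ↥(D.group F),
      ModelN hp (p ^ a) (Fintype.card F) (AddEquiv.refl (Fin l → ℤ)) w X := by
  obtain ⟨r, e', hr, hrF, hrk, he', hq, hk⟩ := exists_closure (F := F) rfl
  have hpr : p ≠ r := by
    rintro rfl
    exact hpF (CharP.cast_eq_zero F p)
  let k := AlgebraicClosure F
  let f : F →+* k := algebraMap F (AlgebraicClosure F)
  have hσ : IsFrob r e' (phi D k r e') := isFrob_phi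
  have F0 : Fr M.toCoxeterSystem hp.isCartan (TT D k) (XX D l k) (phi D k r e') (AddEquiv.refl (Fin l → ℤ)) :=
    fr_phi hp _
  rw [hq]
  exact exists_modelN (k := k) hp hk hpr hW hB one_ne_zero he' hσ F0
    (f := emb hp.inList f) (emb_injective hp.inList f)
    (fun y hy => fix_range hp M.toCoxeterSystem f hq hB one_ne_zero (fun a => ⟨a, pow_one a⟩) hy) w

/-! ### consequences -/

section model

variable {hp} {p a Q : ℕ} [hpp : Fact p.Prime] {g : (Fin l → ℤ) ≃+ (Fin l → ℤ)} {w : M.Group} {G : Type v} [Group G]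
  {X : (Fin l → ZMod (p ^ a)) → G} (H : ModelN hp (p ^ a) Q g w X)

theorem zero_mem : (0 : Fin l → ZMod (p ^ a)) ∈ Lam hp (p ^ a) Q g w := by
  intro x
  unfold lam
  simp

include H in
theorem X_zero : X 0 = 1 := by
  have h := H.add 0 zero_mem 0 zero_mem
  rw [add_zero] at h
  exact (mul_eq_left.1 h.symm)

include H in
theorem X_nsmul {c : Fin l → ZMod (p ^ a)} (hc : c ∈ Lam hp (p ^ a) Q g w) (n : ℕ) :
    X ((n : ZMod (p ^ a)) • c) = X c ^ n := by
  induction n with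
  | zero => rw [Nat.cast_zero, zero_smul, pow_zero, X_zero H]
  | succ n ih => rw [Nat.cast_succ, add_smul, one_smul, H.add _ (Lam.smul hp _ hc) _ hc, ih, pow_succ]

include H in
theorem X_neg {c : Fin l → ZMod (p ^ a)} (hc : c ∈ Lam hp (p ^ a) Q g w) : X (-c) = (X c)⁻¹ := by
  have h1 : -c ∈ Lam hp (p ^ a) Q g w := by
    have := Lam.smul hp (-1) hc
    rwa [neg_one_smul] at this
  have h2 := H.add _ h1 _ hc
  rw [neg_add_cancel, X_zero H] at h2
  exact eq_inv_of_mul_eq_one_left h2.symm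

include H in
theorem X_inj {c c' : Fin l → ZMod (p ^ a)} (hc : c ∈ Lam hp (p ^ a) Q g w) (hc' : c' ∈ Lam hp (p ^ a) Q g w)
    (h : X c = X c') : c = c' := by
  have h1 : -c' ∈ Lam hp (p ^ a) Q g w := by
    have := Lam.smul hp (-1) hc'
    rwa [neg_one_smul] at this
  have h2 := H.add _ hc _ h1
  rw [X_neg H hc', h, mul_inv_cancel] at h2
  have h3 := H.inj _ (Lam.add hp hc h1) h2
  rw [← sub_eq_add_neg, sub_eq_zero] at h3
  exact h3

/-- the torus subgroup -/
def toSub (H : ModelN hp (p ^ a) Q g w X) : Subgroup G where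
  carrier := {x | ∃ c ∈ Lam hp (p ^ a) Q g w, X c = x}
  one_mem' := ⟨0, zero_mem, X_zero H⟩
  mul_mem' := by
    rintro _ _ ⟨c, hc, rfl⟩ ⟨c', hc', rfl⟩
    exact ⟨c + c', Lam.add hp hc hc', H.add c hc c' hc'⟩
  inv_mem' := by
    rintro _ ⟨c, hc, rfl⟩
    refine ⟨-c, ?_, X_neg H hc⟩
    have := Lam.smul hp (-1) hc
    rwa [neg_one_smul] at this

theorem mem_toSub {x : G} : x ∈ toSub H ↔ ∃ c ∈ Lam hp (p ^ a) Q g w, X c = x := Iff.rfl

theorem card_toSub : Nat.card ↥(toSub H) = Nat.card ↥(Lam hp (p ^ a) Q g w) := by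
  refine (Nat.card_congr (Equiv.ofBijective (fun c => (⟨X c.1, c.1, c.2, rfl⟩ : ↥(toSub H))) ⟨?_, ?_⟩)).symm
  · intro c c' h
    exact Subtype.ext (X_inj H c.2 c'.2 (congrArg Subtype.val h))
  · rintro ⟨_, c, hc, rfl⟩
    exact ⟨⟨c, hc⟩, rfl⟩

theorem toSub_comm {x y : G} (hx : x ∈ toSub H) (hy : y ∈ toSub H) : x * y = y * x := by
  obtain ⟨c, hc, rfl⟩ := hx
  obtain ⟨c', hc', rfl⟩ := hy
  rw [← H.add c hc c' hc', ← H.add c' hc' c hc, add_comm]

/-- **The normaliser of the torus subgroup acts as elements of the Weyl group.** -/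
theorem exists_weyl_normalizer {h : G} (hh : h ∈ Subgroup.normalizer (toSub H : Set G)) :
    ∃ w' : M.Group, ∀ c ∈ Lam hp (p ^ a) Q g w, ∃ c' ∈ Lam hp (p ^ a) Q g w, h * X c * h⁻¹ = X c' ∧
      ∀ x, lam c' (rep M.toCoxeterSystem hp.isCartan w' x) = lam c x := by
  have hex : ∀ c : ↥(Lam hp (p ^ a) Q g w), ∃ c' : ↥(Lam hp (p ^ a) Q g w), h * X c.1 * h⁻¹ = X c'.1 := by
    intro c
    obtain ⟨c', hc', e⟩ := (Subgroup.mem_normalizer_iff.1 hh (X c.1)).1 ⟨c.1, c.2, rfl⟩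
    exact ⟨⟨c', hc'⟩, e.symm⟩
  choose c' hc' using hex
  have hNz : NeZero (p ^ a) := ⟨pow_ne_zero _ hpp.out.ne_zero⟩
  obtain ⟨w', hw'⟩ := H.fus (ι := ↥(Lam hp (p ^ a) Q g w)) (fun c => c.1) (fun c => (c' c).1) (fun c => c.2)
    (fun c => (c' c).2) h hc'
  exact ⟨w', fun c hc => ⟨(c' ⟨c, hc⟩).1, (c' ⟨c, hc⟩).2, hc' ⟨c, hc⟩, hw' ⟨c, hc⟩⟩⟩

omit hpp in
/-- the eigenspace is injectively acted on: functionals with the same values are equal -/
theorem lam_ext {N : ℕ} {c c' : Fin l → ZMod N} (h : ∀ x, lam c x = lam c' x) : c = c' := by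
  funext i
  have := h (sr i)
  rwa [lam_sr, lam_sr] at this

/-- the elements of the Weyl group which commute with `θ = rep w ∘ g` -/
def Cth (hp : IsType D l M) (g : (Fin l → ℤ) ≃+ (Fin l → ℤ)) (w : M.Group) : Set M.Group :=
  {v | ∀ x, rep M.toCoxeterSystem hp.isCartan v (rep M.toCoxeterSystem hp.isCartan w (g x)) =
    rep M.toCoxeterSystem hp.isCartan w (g (rep M.toCoxeterSystem hp.isCartan v x))}

include H in
/-- an element of the Weyl group which maps the eigenspace onto itself commutes with `θ` -/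
theorem mem_Cth {c₀ : Fin l → ZMod (p ^ a)} (hc₀ : c₀ ∈ Lam hp (p ^ a) Q g w)
    (hreg : ∀ s : Fin D.nroots, lam c₀ (vec D l s) ≠ 0) {w' : M.Group}
    (hw' : ∃ c ∈ Lam hp (p ^ a) Q g w, ∀ x, lam c₀ (rep M.toCoxeterSystem hp.isCartan w' x) = lam c x) :
    w' ∈ Cth hp g w := by
  obtain ⟨c, hc, h⟩ := hw'
  obtain ⟨v', hv'⟩ := H.tw w'
  -- `u = w' w v'⁻¹ w⁻¹`
  have hu : w' * w * v'⁻¹ * w⁻¹ = 1 := by
    refine H.reg _ c₀ hreg fun y => ?_
    obtain ⟨z, hz⟩ : ∃ z, z = rep M.toCoxeterSystem hp.isCartan (v'⁻¹ * w⁻¹) y := ⟨_, rfl⟩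
    obtain ⟨x, hx⟩ := g.surjective z
    have h1 : y = rep M.toCoxeterSystem hp.isCartan w (g (rep M.toCoxeterSystem hp.isCartan w' x)) := by
      rw [← hv', hx, hz, rep_mul_apply, rep_apply_inv, rep_apply_inv]
    rw [mul_assoc, rep_mul_apply, ← hz, ← hx, rep_mul_apply, h, hc, ← h, h1, hc₀]
  have hu' : w' * w = w * v' := by
    exact mul_inv_eq_iff_eq_mul.1 (mul_inv_eq_one.1 hu)
  intro x
  rw [← rep_mul_apply, hu', rep_mul_apply, hv']

variable (hp) in
/-- the regular elements of the eigenspace -/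
def LamReg (N Q : ℕ) (g : (Fin l → ℤ) ≃+ (Fin l → ℤ)) (w : M.Group) : Set (Fin l → ZMod N) :=
  {c | c ∈ Lam hp N Q g w ∧ ∀ s : Fin D.nroots, lam c (vec D l s) ≠ 0}

/-- **`|N(P)| ≤ |C(P)| n`.** -/
theorem card_normalizer_le [Finite G] (hreg : (LamReg hp (p ^ a) Q g w).Nonempty) {n : ℕ}
    (hn : Nat.card ↥(Cth hp g w) ≤ n) :
    Nat.card ↥(Subgroup.normalizer (toSub H : Set G)) ≤ Nat.card ↥(Subgroup.centralizer (toSub H : Set G)) * n := by
  classical
  have hWf := finite_W hp M.toCoxeterSystem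
  obtain ⟨c₀, hc₀, hr⟩ := hreg
  set N := Subgroup.normalizer (toSub H : Set G) with hN
  set C := Subgroup.centralizer (toSub H : Set G) with hC
  have hCN : C ≤ N := Subgroup.centralizer_le_normalizer _
  choose f hf using fun h : N => exists_weyl_normalizer H h.2
  have hfC : ∀ h, f h ∈ Cth hp g w := by
    intro h
    -- the preimage of `c₀`
    obtain ⟨c, hc, hce⟩ : ∃ c ∈ Lam hp (p ^ a) Q g w, (h : G) * X c * (h : G)⁻¹ = X c₀ := by
      have h1 := (Subgroup.mem_normalizer_iff.1 (inv_mem h.2) (X c₀)).1 ⟨c₀, hc₀, rfl⟩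
      obtain ⟨c, hc, e⟩ := h1
      refine ⟨c, hc, ?_⟩
      rw [e]
      group
    obtain ⟨c', hc', e1, e2⟩ := hf h c hc
    have h2 : c' = c₀ := X_inj H hc' hc₀ (e1.symm.trans hce)
    subst h2
    exact mem_Cth H hc₀ hr ⟨c, hc, e2⟩
  have hinj : ∀ h h' : N, f h = f h' → (h : G)⁻¹ * h' ∈ C := by
    intro h h' hff
    rw [hC, Subgroup.mem_centralizer_iff]
    rintro _ ⟨c, hc, rfl⟩
    obtain ⟨c1, hc1, e1, e2⟩ := hf h c hc
    obtain ⟨c2, hc2, e3, e4⟩ := hf h' c hc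
    have h1 : c1 = c2 := by
      refine lam_ext fun x => ?_
      obtain ⟨y, hy⟩ : ∃ y, rep M.toCoxeterSystem hp.isCartan (f h) y = x :=
        ⟨rep M.toCoxeterSystem hp.isCartan (f h)⁻¹ x, rep_apply_inv _ _ _ _⟩
      rw [← hy, e2]
      rw [hff, e4]
    rw [← h1, ← e1] at e3
    calc X c * ((h : G)⁻¹ * h') = (h : G)⁻¹ * (h * X c * (h : G)⁻¹) * h' := by group
      _ = (h : G)⁻¹ * (h' * X c * (h' : G)⁻¹) * h' := by rw [e3]
      _ = (h : G)⁻¹ * h' * X c := by group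
  -- the quotient
  have hcard : Nat.card (N ⧸ C.subgroupOf N) ≤ Nat.card ↥(Cth hp g w) := by
    refine Nat.card_le_card_of_injective (fun z => (⟨f (Quotient.out z), hfC _⟩ : ↥(Cth hp g w))) ?_
    intro z z' h
    have h1 := hinj _ _ (congrArg Subtype.val h)
    rw [← Quotient.out_eq' z, ← Quotient.out_eq' z']
    refine QuotientGroup.eq.2 ?_
    rw [Subgroup.mem_subgroupOf]
    exact h1
  have h2 := Subgroup.card_mul_index (C.subgroupOf N)
  rw [← h2, Subgroup.index, Nat.card_congr (Subgroup.subgroupOfEquivOfLe hCN).toEquiv]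
  exact Nat.mul_le_mul_left _ (hcard.trans hn)

/-- the regular elements -/
theorem le_reg [Finite G] : Nat.card ↥(LamReg hp (p ^ a) Q g w) ≤
    Nat.card {x : G // x ∈ toSub H ∧ ∀ h ∈ Subgroup.normalizer (toSub H : Set G), h * x = x * h →
      h ∈ Subgroup.centralizer (toSub H : Set G)} := by
  have hex : ∀ c : ↥(LamReg hp (p ^ a) Q g w), X c.1 ∈ toSub H ∧
      ∀ h ∈ Subgroup.normalizer (toSub H : Set G), h * X c.1 = X c.1 * h →
      h ∈ Subgroup.centralizer (toSub H : Set G) := by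
    rintro ⟨c, hc, hr⟩
    refine ⟨⟨c, hc, rfl⟩, fun h hh hcomm => ?_⟩
    obtain ⟨w', hw'⟩ := exists_weyl_normalizer H hh
    obtain ⟨c', hc', e1, e2⟩ := hw' c hc
    have h1 : c' = c := X_inj H hc' hc (e1.symm.trans (by rw [hcomm, mul_inv_cancel_right]))
    subst h1
    have h2 : w' = 1 := H.reg w' c' hr e2
    rw [Subgroup.mem_centralizer_iff]
    rintro _ ⟨d, hd, rfl⟩
    obtain ⟨d', hd', e3, e4⟩ := hw' d hd
    have h3 : d' = d := lam_ext fun x => by
      have := e4 x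
      rwa [h2, map_one, Module.End.one_apply] at this
    rw [h3] at e3
    exact (mul_inv_eq_iff_eq_mul.1 e3).symm
  refine Nat.card_le_card_of_injective (fun c => ⟨X c.1, hex c⟩) ?_
  intro c c' h
  exact Subtype.ext (X_inj H c.2.1 c'.2.1 (congrArg Subtype.val h))

/-- **The hypothesis of the height theorem.** -/
theorem height_hyp [Finite G] (P : Sylow p G) (hP : (P : Subgroup G) = toSub H) {n : ℕ}
    (hn : Nat.card ↥(Cth hp g w) ≤ n)
    (h : n * Nat.card ↥(Lam hp (p ^ a) Q g w) < p ^ 2 * Nat.card ↥(LamReg hp (p ^ a) Q g w)) :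
    Nat.card ↥(Subgroup.normalizer ((P : Subgroup G) : Set G)) * Nat.card P <
      p ^ 2 * Nat.card ↥(Subgroup.centralizer ((P : Subgroup G) : Set G)) *
        Nat.card {x : G // x ∈ (P : Subgroup G) ∧ ∀ g ∈ Subgroup.normalizer ((P : Subgroup G) : Set G), g * x = x * g →
          g ∈ Subgroup.centralizer ((P : Subgroup G) : Set G)} := by
  have hPc : Nat.card P = Nat.card ↥(toSub H) := by
    rw [← hP]
  rw [hPc, hP, card_toSub]
  have hne : (LamReg hp (p ^ a) Q g w).Nonempty := by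
    by_contra hcon
    rw [Set.not_nonempty_iff_eq_empty] at hcon
    rw [hcon, Nat.card_of_isEmpty (α := ↥(∅ : Set (Fin l → ZMod (p ^ a)))), mul_zero] at h
    exact absurd h (Nat.not_lt_zero _)
  have h1 := card_normalizer_le H hne hn
  have h2 := le_reg H
  have hC : 0 < Nat.card ↥(Subgroup.centralizer (toSub H : Set G)) := Nat.card_pos
  calc Nat.card ↥(Subgroup.normalizer (toSub H : Set G)) * Nat.card ↥(Lam hp (p ^ a) Q g w)
      ≤ Nat.card ↥(Subgroup.centralizer (toSub H : Set G)) * n * Nat.card ↥(Lam hp (p ^ a) Q g w) :=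
        Nat.mul_le_mul_right _ h1
    _ = Nat.card ↥(Subgroup.centralizer (toSub H : Set G)) * (n * Nat.card ↥(Lam hp (p ^ a) Q g w)) := by
        rw [mul_assoc]
    _ < Nat.card ↥(Subgroup.centralizer (toSub H : Set G)) * (p ^ 2 * Nat.card ↥(LamReg hp (p ^ a) Q g w)) :=
        Nat.mul_lt_mul_of_pos_left h hC
    _ = p ^ 2 * Nat.card ↥(Subgroup.centralizer (toSub H : Set G)) * Nat.card ↥(LamReg hp (p ^ a) Q g w) := by ring
    _ ≤ _ := Nat.mul_le_mul_left _ h2

/-- the torus subgroup is a Sylow subgroup -/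
theorem exists_sylow [Finite G] {v : ℕ} (hL : p ^ v ≤ Nat.card ↥(Lam hp (p ^ a) Q g w))
    (hG : ¬ p ^ (v + 1) ∣ Nat.card G) :
    Nat.card ↥(Lam hp (p ^ a) Q g w) = p ^ v ∧ ∃ P : Sylow p G, (P : Subgroup G) = toSub H := by
  have hNz : NeZero (p ^ a) := ⟨pow_ne_zero _ hpp.out.ne_zero⟩
  have hpg : IsPGroup p ↥(toSub H) := by
    rintro ⟨x, c, hc, rfl⟩
    refine ⟨a, Subtype.ext ?_⟩
    show X c ^ p ^ a = 1
    rw [← X_nsmul H hc, ZMod.natCast_self, zero_smul, X_zero H]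
  obtain ⟨u, hu⟩ := IsPGroup.iff_card.1 hpg
  rw [← card_toSub H, hu] at hL ⊢
  have h1 : v ≤ u := (Nat.pow_le_pow_iff_right hpp.out.one_lt).1 hL
  have h2 : u ≤ v := by
    by_contra hcon
    exact hG ((pow_dvd_pow p (by omega)).trans (hu ▸ (toSub H).card_subgroup_dvd_card))
  have h3 : u = v := le_antisymm h2 h1
  refine ⟨by rw [h3], ?_⟩
  obtain ⟨P, hP⟩ := hpg.exists_le_sylow
  refine ⟨P, ?_⟩
  symm
  apply Subgroup.eq_of_le_of_card_ge hP
  obtain ⟨u', hu'⟩ := IsPGroup.iff_card.1 P.2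
  rw [hu, hu']
  refine Nat.pow_le_pow_right hpp.out.pos ?_
  by_contra hcon
  exact hG ((pow_dvd_pow p (by omega)).trans (hu' ▸ (P : Subgroup G).card_subgroup_dvd_card))

end model

end Cfsg.Agent.H208.XR
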