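import Cfsg.Agent.H208.XR.Down
import Cfsg.Agent.H603.AP.Sq
import Cfsg.Agent.H76.KJ.Basic

/-!
# Lines of the torus model, and heights (S4791, S4927; helper208)

* `bil_rep` : the Cartan form is invariant;
* `x0_eq_kJ_of_two` : `x₀ = k_J` in rank two;
* `Ln` : an element `x` of order `p`, `x ~ xⁱ → iᵉ = 1`, `b ≤ l(B₀(C(x)))`; `exists_line` ;
* `kJ_of_line_reg`, `kJ_of_line_add`, `kJ_of_lines` : lower bounds for `k_J`.
-/

set_option autoImplicit false
set_option linter.unusedSectionVars false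

namespace Cfsg.Agent.H208.XR

open CoxeterSystem Cfsg Cfsg.Lie Cfsg.Lie.ChevalleyDatum
open Cfsg.Agent.ChevalleyStructure Cfsg.Agent.ChevalleyStructure.Elts Cfsg.Agent.ChevalleyStructure.CoxeterGeom
  Cfsg.Agent.ChevalleyStructure.CoxeterGeomTypes Cfsg.Agent.ChevalleyStructure.NPerm
open Cfsg.Agent.Tits.Roots Cfsg.Agent.Tits.Core Cfsg.Agent.Nodes Cfsg.Agent.Nodes.Reps Cfsg.Agent.Nodes.BNOf
  Cfsg.Agent.Nodes.RGDChev Cfsg.Agent.Nodes.Bruhat
open Cfsg.Agent.H129.TorusChar Cfsg.Agent.H129.WData Cfsg.Agent.H210.EL Cfsg.Agent.H440.TD4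
open Cfsg.Agent.H682.KB (Q4 add4 sm4 mx mul4 ev ev_add ev_sm ev_mul ev_one ev_zero ev_int vv EigQ isUnit_ev ev_x Pr)
open Cfsg.Agent.H994.KE (isRoot_rep' exists_perm)
open Cfsg.Agent.H944.RootVals (ms)
open Cfsg.Agent.H674.XZ Cfsg.Agent.H508.XR

universe u v

section form

variable {l : ℕ}

theorem bil_comm {A : Mat l} (hA : ∀ i j, A i j = A j i) (x y : Fin l → ℤ) : bil A x y = bil A y x := by
  unfold bil
  simp only [Finset.mul_sum]
  rw [Finset.sum_comm]
  refine Finset.sum_congr rfl fun i _ => Finset.sum_congr rfl fun j _ => ?_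
  rw [hA]
  ring

theorem bil_smul_left (A : Mat l) (c : ℤ) (x y : Fin l → ℤ) : bil A (c • x) y = c * bil A x y := by
  unfold bil
  rw [Finset.mul_sum]
  exact Finset.sum_congr rfl fun i _ => by rw [Pi.smul_apply, smul_eq_mul, mul_assoc]

theorem bil_sub_left (A : Mat l) (x x' y : Fin l → ℤ) : bil A (x - x') y = bil A x y - bil A x' y := by
  unfold bil
  rw [← Finset.sum_sub_distrib]
  exact Finset.sum_congr rfl fun i _ => by rw [Pi.sub_apply, sub_mul]

theorem bil_sr_left (A : Mat l) (i : Fin l) (y : Fin l → ℤ) : bil A (sr i) y = pairing A i y := by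
  unfold bil sr
  rw [Finset.sum_eq_single i]
  · rw [Pi.single_eq_same, one_mul]
    rfl
  · intro j _ hj
    rw [Pi.single_eq_of_ne hj, zero_mul]
  · intro h
    exact absurd (Finset.mem_univ i) h

theorem bil_refl {A : Mat l} (hA : ∀ i j, A i j = A j i) (h2 : ∀ i, A i i = 2) (i : Fin l) (x y : Fin l → ℤ) :
    bil A (refl A i x) (refl A i y) = bil A x y := by
  have e1 : ∀ z : Fin l → ℤ, refl A i z = z - pairing A i z • sr i := fun z => by
    rw [refl_apply, single_eq_smul]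
    rfl
  have e2 : bil A (sr i) (sr i) = 2 := by
    rw [bil_sr_left]
    unfold pairing sr
    rw [Finset.sum_eq_single i]
    · rw [Pi.single_eq_same, mul_one, h2]
    · intro j _ hj
      rw [Pi.single_eq_of_ne hj, mul_zero]
    · intro h
      exact absurd (Finset.mem_univ i) h
  rw [e1, e1, bil_sub_left, bil_smul_left, bil_comm hA x, bil_sub_left, bil_smul_left, bil_sr_left,
    bil_comm hA (sr i), bil_sub_left, bil_smul_left, e2, bil_comm hA y, bil_comm hA y (sr i), bil_sr_left]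
  ring

variable {D : ChevalleyDatum} {M : CoxeterMatrix (Fin l)} (hp : IsType D l M)

theorem bil_rep {A : Mat l} (hA : ∀ i j, A i j = cartanOf D l i j) (hs : ∀ i j, A i j = A j i) (h2 : ∀ i, A i i = 2)
    (v : M.Group) (x y : Fin l → ℤ) :
    bil A (rep M.toCoxeterSystem hp.isCartan v x) (rep M.toCoxeterSystem hp.isCartan v y) = bil A x y := by
  have e : A = cartanOf D l := funext fun i => funext fun j => hA i j
  subst e
  induction v using M.toCoxeterSystem.simple_induction_left generalizing x y with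
  | one => rw [map_one]; rfl
  | mul_simple_left w i ih =>
    rw [rep_mul_apply, rep_mul_apply, rep_simple, bil_refl hs h2, ih]

/-- commuting elements of the Weyl group from a check of matrices -/
theorem Cth_of_comm {A : Mat l} (hA : ∀ i j, A i j = cartanOf D l i j)
    {Cw Cv : List (Fin l × Mat l)} (hw : ChainOK A Cw) (hv : ChainOK A Cv) (hc : CommOK (hd Cv) (hd Cw)) :
    M.toCoxeterSystem.wordProd (Cv.map Prod.fst) ∈
      Cth hp (AddEquiv.refl (Fin l → ℤ)) (M.toCoxeterSystem.wordProd (Cw.map Prod.fst)) := by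
  have hwr := chain_rep hp M.toCoxeterSystem hA hw
  have hvr := chain_rep hp M.toCoxeterSystem hA hv
  set w : M.Group := M.toCoxeterSystem.wordProd (Cw.map Prod.fst) with hwdef
  set v : M.Group := M.toCoxeterSystem.wordProd (Cv.map Prod.fst) with hvdef
  have h1 := ext_sr ((rep M.toCoxeterSystem hp.isCartan v).toAddMonoidHom.comp
      (rep M.toCoxeterSystem hp.isCartan w).toAddMonoidHom)
    ((rep M.toCoxeterSystem hp.isCartan w).toAddMonoidHom.comp
      (rep M.toCoxeterSystem hp.isCartan v).toAddMonoidHom) (fun j => by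
        show rep M.toCoxeterSystem hp.isCartan v (rep M.toCoxeterSystem hp.isCartan w (sr j)) =
          rep M.toCoxeterSystem hp.isCartan w (rep M.toCoxeterSystem hp.isCartan v (sr j))
        funext m
        rw [H795.TorsData.rep_of_sr hp M.toCoxeterSystem hvr, H795.TorsData.rep_of_sr hp M.toCoxeterSystem hwr,
          hwr, hvr]
        exact (hc j m).symm)
  exact h1

/-- values of eigenvectors -/
theorem lam_rep_vv {A : Mat l} (hA : ∀ i j, A i j = cartanOf D l i j) {Cv : List (Fin l × Mat l)} (hv : ChainOK A Cv)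
    {N Q : ℕ} {P s : Q4} (hq : (Q : ZMod N) ^ 4 = ev (Q : ZMod N) P) {B : List Q4} (hB : EigQ P (hd Cv) s B)
    (x : Fin l → ℤ) :
    lam (vv (Q : ZMod N) B) (rep M.toCoxeterSystem hp.isCartan (M.toCoxeterSystem.wordProd (Cv.map Prod.fst)) x) =
      ev (Q : ZMod N) s * lam (vv (Q : ZMod N) B) x := by
  have hvr := chain_rep hp M.toCoxeterSystem hA hv
  have h1 := hB.eigOK hq
  exact ext_sr ((lamHom (vv (Q : ZMod N) B)).comp
      (rep M.toCoxeterSystem hp.isCartan (M.toCoxeterSystem.wordProd (Cv.map Prod.fst))).toAddMonoidHom)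
    ((AddMonoidHom.mulLeft (ev (Q : ZMod N) s)).comp (lamHom (vv (Q : ZMod N) B))) (fun i => by
      show lam (vv (Q : ZMod N) B) (rep M.toCoxeterSystem hp.isCartan
          (M.toCoxeterSystem.wordProd (Cv.map Prod.fst)) (sr i)) =
        ev (Q : ZMod N) s * lam (vv (Q : ZMod N) B) (sr i)
      rw [hvr i, lam_sr]
      exact h1 i) x

end form

section model

variable {D : ChevalleyDatum} {l : ℕ} {M : CoxeterMatrix (Fin l)} {hp : IsType D l M} {p a Q : ℕ} [hpp : Fact p.Prime]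
  {g : (Fin l → ℤ) ≃+ (Fin l → ℤ)} {w : M.Group} {G : Type u} [Group G] {X : (Fin l → ZMod (p ^ a)) → G}
  (H : ModelN hp (p ^ a) Q g w X) {Mx : Ideal AlgInt}

include H in
/-- **Heights.** -/
theorem x0_eq_kJ_of_two [Finite G] (hM : IsPModular p Mx) (ha : a ≠ 0) (h7 : 7 ≤ p)
    (hG : ¬ p ^ (2 * a + 1) ∣ Nat.card G) {P : Q4} {V₁ V₂ : List Q4} {s₁ s₂ : Fin D.nroots}
    (T : Two hp g w P V₁ V₂ s₁ s₂) (hq : (Q : ZMod (p ^ a)) ^ 4 = ev (Q : ZMod (p ^ a)) P)
    {C : List (Q4 × Q4 × Q4)} {R : List (Q4 × Q4)}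
    (hR : ∀ s : Fin D.nroots, (okU P C (dq (vec D l s) V₁) = true ∨ okU P C (dq (vec D l s) V₂) = true) ∧
      ∃ ρ ∈ R, mul4 P (dq (vec D l s) V₁) ρ.2 = mul4 P (dq (vec D l s) V₂) ρ.1)
    (hRu : ∀ ρ ∈ R, okU P C ρ.1 = true ∨ okU P C ρ.2 = true)
    {W : Mat l} (hW : ∀ j, rep M.toCoxeterSystem hp.isCartan w (g (sr j)) = W j) {B : Fin 4 → Mat l}
    (h0 : ∀ (v : M.Group) (x y : Fin l → ℤ), bil (B 0) (rep M.toCoxeterSystem hp.isCartan v x)
      (rep M.toCoxeterSystem hp.isCartan v y) = bil (B 0) x y)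
    (hB : ∀ (k : Fin 3) (i m : Fin l), B k.succ i m = ∑ j, B k.castSucc i j * W m j) {n₁ n₂ : ℕ}
    (hn1 : (Finset.univ.filter fun s : Fin D.nroots => ∀ k : Fin 4, bil (B k) (vec D l s) (vec D l s) =
      bil (B k) (vec D l s₁) (vec D l s₁)).card ≤ n₁)
    (hn2 : (Finset.univ.filter fun s : Fin D.nroots => ∀ k : Fin 4, bil (B k) (vec D l s) (vec D l s) =
      bil (B k) (vec D l s₂) (vec D l s₂) ∧ bil (B k) (vec D l s) (vec D l s₁) =
      bil (B k) (vec D l s₂) (vec D l s₁)).card ≤ n₂)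
    (hn : a = 1 ∨ n₁ * n₂ + R.length < p ^ 2) : x0 p Mx G = kJ p Mx G := by
  have hpos : 0 < p := hpp.out.pos
  obtain ⟨hL, Pp, hP⟩ := exists_sylow H (T.le_card_Lam hq) hG
  have hPc : Nat.card Pp = p ^ (2 * a) := by
    have h1 : Nat.card Pp = Nat.card ↥(toSub H) := by rw [← hP]
    rw [h1, card_toSub, hL]
  by_cases ha1 : a = 1
  · exact H603.AP.x0_eq_kJ_of_sq hM Pp (by rw [hPc, ha1])
  · have hn' : n₁ * n₂ + R.length < p ^ 2 := hn.resolve_left ha1
    have ha2 : 2 ≤ a := by omega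
    have hreg := T.card_reg ha h7 hq R hR hRu
    have hlen : R.length * p ^ a < p ^ (2 * a) := by
      have h1 : R.length < p ^ a := (show R.length < p ^ 2 by omega).trans_le (Nat.pow_le_pow_right hpos ha2)
      calc R.length * p ^ a < p ^ a * p ^ a := Nat.mul_lt_mul_of_pos_right h1 (pow_pos hpos _)
        _ = p ^ (2 * a) := by rw [← pow_add]; congr 1; omega
    have hne : (LamReg hp (p ^ a) Q g w).Nonempty := by
      by_contra hcon
      rw [Set.not_nonempty_iff_eq_empty] at hcon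
      rw [hcon, Nat.card_of_isEmpty (α := ↥(∅ : Set (Fin l → ZMod (p ^ a)))), zero_add] at hreg
      omega
    have hC := T.card_Cth_le H hq hL hne hW h0 hB hn1 hn2
    refine H603.AP.x0_eq_kJ_of_reg hM Pp ?_ (height_hyp H Pp hP hC ?_)
    · rw [hP]
      intro x hx y hy
      exact toSub_comm H hx hy
    · rw [hL]
      have h1 : p ^ 2 * p ^ (2 * a) ≤ p ^ 2 * Nat.card ↥(LamReg hp (p ^ a) Q g w) + R.length * p ^ (2 * a) := by
        have h2 : p ^ 2 * (R.length * p ^ a) ≤ R.length * p ^ (2 * a) := by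
          calc p ^ 2 * (R.length * p ^ a) = R.length * (p ^ 2 * p ^ a) := by ring
            _ ≤ R.length * (p ^ a * p ^ a) :=
              Nat.mul_le_mul_left _ (Nat.mul_le_mul_right _ (Nat.pow_le_pow_right hpos ha2))
            _ = R.length * p ^ (2 * a) := by rw [← pow_add]; congr 2; omega
        calc p ^ 2 * p ^ (2 * a) ≤ p ^ 2 * (Nat.card ↥(LamReg hp (p ^ a) Q g w) + R.length * p ^ a) :=
              Nat.mul_le_mul_left _ hreg
          _ = p ^ 2 * Nat.card ↥(LamReg hp (p ^ a) Q g w) + p ^ 2 * (R.length * p ^ a) := by ring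
          _ ≤ _ := Nat.add_le_add_left h2 _
      have h3 : (n₁ * n₂ + R.length) * p ^ (2 * a) < p ^ 2 * p ^ (2 * a) :=
        Nat.mul_lt_mul_of_pos_right hn' (pow_pos hpos _)
      rw [add_mul] at h3
      omega

/-- an element `x` of order `p`, `x ~ xⁱ → iᵉ = 1`, `b ≤ l(B₀(C(x)))` -/
structure Ln (p : ℕ) (Mx : Ideal AlgInt) {S : Type u} [Group S] [Finite S] (x : S) (e b : ℕ) : Prop where
  ord : orderOf x = p
  fus : ∀ (g : S) (i : ℕ), g * x * g⁻¹ = x ^ i → (i : ZMod p) ^ e = 1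
  rank : b ≤ blockRank p (principalBlock Mx ↥(Subgroup.centralizer ({x} : Set S)))

include H in
/-- the centralizer of the element of order `p` -/
theorem centralizer_down (ha : a ≠ 0) {c : Fin l → ZMod (p ^ a)} (hc : c ∈ Lam hp (p ^ a) Q g w)
    (hcen : ∀ s : Fin D.nroots, lam c (vec D l s) = 0 ∨ lam (red p a ha c) (vec D l s) ≠ 0) :
    Subgroup.centralizer ({X (up p a (red p a ha c))} : Set G) = Subgroup.centralizer ({X c} : Set G) := by
  apply le_antisymm
  · intro h hh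
    rw [Subgroup.mem_centralizer_singleton_iff] at hh ⊢
    exact H.cen c hc _ ((up_mem_iff ha).2 (red_mem (hp := hp) ha hc)) (fun s hs => by
      rcases hcen s with h1 | h1
      · exact h1
      · exact absurd ((lam_up_eq_zero ha _ _).1 hs) h1) h hh
  · intro h hh
    rw [Subgroup.mem_centralizer_singleton_iff] at hh ⊢
    rw [X_up_red H ha hc]
    exact Commute.pow_right hh _

include H in
/-- **A line.** -/
theorem exists_line [Finite G] (hM : IsPModular p Mx) (ha : a ≠ 0)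
    (hG : ¬ p ^ (2 * a + 1) ∣ Nat.card G) {c y : Fin l → ZMod (p ^ a)} (hc : c ∈ Lam hp (p ^ a) Q g w)
    (hy : y ∈ Lam hp (p ^ a) Q g w) {x₁ x₂ : Fin l → ℤ} (h1 : IsUnit (lam c x₁)) (h2 : IsUnit (lam y x₂))
    {v : M.Group} (hv : v ∈ Cth hp g w) (hvc : ∀ x, lam c (rep M.toCoxeterSystem hp.isCartan v x) = lam c x)
    {t : ZMod (p ^ a)} {n : ℕ} (hvy : ∀ x, lam y (rep M.toCoxeterSystem hp.isCartan v x) = t * lam y x)
    (hn : (n : ZMod (p ^ a)) * t = 1)
    (hcen : ∀ s : Fin D.nroots, lam c (vec D l s) = 0 ∨ lam (red p a ha c) (vec D l s) ≠ 0) {e : ℕ}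
    (hfus : ∀ i : ℕ, ¬ p ∣ i → ms D l (red p a ha c) = ms D l (fun n => (i : ZMod (p ^ 1)) * red p a ha c n) →
      (i : ZMod p) ^ e = 1) :
    Ln p Mx (X (up p a (red p a ha c))) e (orderOf (n : ZMod p)) := by
  have oc := orderOf_X H hc h1
  have oy := orderOf_X H hy h2
  obtain ⟨m, hm⟩ := H.act v hv
  have hpr : Pr p a (X c) (X y) m n := by
    refine ⟨oc, oy, ?_, ?_, ?_⟩
    · rw [← H.add c hc y hy, ← H.add y hy c hc, add_comm]
    · have h3 := hm c hc c hc fun x => hvc x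
      rwa [mul_inv_eq_iff_eq_mul] at h3
    · have h3 := hm y hy _ (Lam.smul hp (n : ZMod (p ^ a)) hy) fun x => by
        rw [lam_smul', hvy, ← mul_assoc, hn, one_mul]
      rw [h3, X_nsmul H hy]
  have hrank := H682.KB.rank_pair hM ha hG hpr
  have hred := red_mem (hp := hp) ha hc
  have hord : orderOf (X (up p a (red p a ha c))) = p := by
    rw [X_up_red H ha hc]
    have h3 : p ^ (a - 1) ∣ orderOf (X c) := by
      rw [oc]
      exact pow_dvd_pow p (by omega)
    rw [orderOf_pow_of_dvd (pow_ne_zero _ hpp.out.ne_zero) h3, oc, Nat.pow_div (by omega) hpp.out.pos,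
      show a - (a - 1) = 1 by omega, pow_one]
  refine ⟨hord, ?_, ?_⟩
  · intro h i hh
    have hpi : ¬ p ∣ i := by
      intro hpi
      rw [orderOf_dvd_iff_pow_eq_one.1 (hord.symm ▸ hpi), mul_inv_eq_one, mul_eq_left] at hh
      rw [hh, orderOf_one] at hord
      exact hpp.out.one_lt.ne hord
    apply hfus i hpi
    have h3 := X_nsmul (H.down ha) hred i
    have h4 : IsConj (X (up p a (red p a ha c))) (X (up p a ((i : ZMod (p ^ 1)) • red p a ha c))) := by
      rw [isConj_iff]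
      exact ⟨h, by rw [hh]; exact h3.symm⟩
    exact ms_of_conj (H.down ha) hred (Lam.smul hp _ hred) h4
  · rw [centralizer_down H ha hc hcen]
    exact hrank

include H in
/-- `2 ≤ l(B₀)` -/
theorem two_le_of_line [Finite G] (hM : IsPModular p Mx) (ha : a ≠ 0) {y : Fin l → ZMod (p ^ a)}
    (hy : y ∈ Lam hp (p ^ a) Q g w) {x₂ : Fin l → ℤ} (h2 : IsUnit (lam y x₂))
    {v : M.Group} (hv : v ∈ Cth hp g w)
    {t : ZMod (p ^ a)} {n : ℕ} (hvy : ∀ x, lam y (rep M.toCoxeterSystem hp.isCartan v x) = t * lam y x)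
    (hn : (n : ZMod (p ^ a)) * t = 1) (hn1 : (n : ZMod p) ≠ 1) : 2 ≤ blockRank p (principalBlock Mx G) := by
  obtain ⟨m, hm⟩ := H.act v hv
  have h3 := hm y hy _ (Lam.smul hp (n : ZMod (p ^ a)) hy) fun x => by
    rw [lam_smul', hvy, ← mul_assoc, hn, one_mul]
  rw [X_nsmul H hy] at h3
  exact H682.KB.two_le_of_conj hM ha (orderOf_X H hy h2) h3 hn1

include H in
/-- an element with few trivial roots is not conjugate to a power of an element with more -/
theorem not_conj_pow (ha : a ≠ 0) {c z : Fin l → ZMod (p ^ 1)} (hc : c ∈ Lam hp (p ^ 1) Q g w)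
    (hz : z ∈ Lam hp (p ^ 1) Q g w) {n : ℕ}
    (h1 : (Finset.univ.filter fun s : Fin D.nroots => lam z (vec D l s) = 0).card ≤ n)
    (h2 : n < (Finset.univ.filter fun s : Fin D.nroots => lam c (vec D l s) = 0).card) (i : ℕ) :
    ¬ IsConj (X (up p a z)) (X (up p a c) ^ i) := by
  have h3 := X_nsmul (H.down ha) hc i
  have h4 : n < (Finset.univ.filter fun s : Fin D.nroots =>
      lam ((i : ZMod (p ^ 1)) • c) (vec D l s) = 0).card := by
    refine h2.trans_le (Finset.card_le_card fun s hs => ?_)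
    rw [Finset.mem_filter] at hs ⊢
    exact ⟨hs.1, by rw [lam_smul', hs.2, mul_zero]⟩
  have h5 := not_conj_of_card (H.down ha) hz (Lam.smul hp (i : ZMod (p ^ 1)) hc) h1 h4
  intro h6
  apply h5
  have h7 : X (up p a c) ^ i = X (up p a ((i : ZMod (p ^ 1)) • c)) := h3.symm
  rwa [h7] at h6

include H in
/-- the order of an element of level one -/
theorem orderOf_up (ha : a ≠ 0) {z : Fin l → ZMod (p ^ 1)} (hz : z ∈ Lam hp (p ^ 1) Q g w) (hz0 : z ≠ 0) :
    orderOf (X (up p a z)) = p := by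
  apply orderOf_eq_prime
  · have h3 : X (up p a (((p : ℕ) : ZMod (p ^ 1)) • z)) = X (up p a z) ^ p := X_nsmul (H.down ha) hz p
    rw [← h3]
    have h4 : ((p : ℕ) : ZMod (p ^ 1)) = 0 := by
      rw [ZMod.natCast_eq_zero_iff, pow_one]
    rw [h4, zero_smul]
    exact X_zero (H.down ha)
  · intro h
    exact hz0 ((H.down ha).inj z hz h)

end model

end Cfsg.Agent.H208.XR
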