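import Cfsg.Agent.H208.XR.Frame
import Cfsg.Agent.H682.KB.Rel
import Cfsg.Agent.H994.KE.Base

/-!
# Rank two eigenspaces over `ℤ[x] / (x⁴ - P)` (S4791, S4927; helper208)

`q = Q` modulo `p ^ a` satisfies `q⁴ = P(q)`; `V₁`, `V₂` eigenvectors with entries in `ℤ[x] / (x⁴ - P)` which are dual to two
roots `s₁`, `s₂`.

* `okU` : a certificate for units; `lam_vv` : the values of `vv q B`;
* `le_card_Lam` : `p ^ (2 a) ≤ |Lam|`; `card_reg` : `p ^ (2 a) ≤ |LamReg| + |R| p ^ a`, `R` a list of the root kernels;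
* `card_Cth_le` : at most `n₁ n₂` elements of the Weyl group commute with `θ`.
-/

set_option autoImplicit false
set_option linter.unusedSectionVars false

namespace Cfsg.Agent.H208.XR

open CoxeterSystem Cfsg Cfsg.Lie Cfsg.Lie.ChevalleyDatum
open Cfsg.Agent.ChevalleyStructure Cfsg.Agent.ChevalleyStructure.Elts Cfsg.Agent.ChevalleyStructure.CoxeterGeom
  Cfsg.Agent.ChevalleyStructure.CoxeterGeomTypes Cfsg.Agent.ChevalleyStructure.NPerm
open Cfsg.Agent.Tits.Roots Cfsg.Agent.Tits.Core Cfsg.Agent.Nodes Cfsg.Agent.Nodes.Reps Cfsg.Agent.Nodes.BNOf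
  Cfsg.Agent.Nodes.RGDChev Cfsg.Agent.Nodes.Bruhat
open Cfsg.Agent.H129.TorusChar Cfsg.Agent.H129.WData Cfsg.Agent.H210.EL Cfsg.Agent.H440.TD4
open Cfsg.Agent.H682.KB (Q4 add4 sm4 mx mul4 ev ev_add ev_sm ev_mul ev_one ev_zero ev_int vv EigQ isUnit_ev ev_x)
open Cfsg.Agent.H994.KE (isRoot_rep' exists_perm)

universe u v

/-! ### arithmetic -/

/-- the value of a vector of quadruples -/
def dq {l : ℕ} (x : Fin l → ℤ) (B : List Q4) : Q4 :=
  (∑ n : Fin l, x n * (B.getD n (0, 0, 0, 0)).1, ∑ n : Fin l, x n * (B.getD n (0, 0, 0, 0)).2.1,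
    ∑ n : Fin l, x n * (B.getD n (0, 0, 0, 0)).2.2.1, ∑ n : Fin l, x n * (B.getD n (0, 0, 0, 0)).2.2.2)

theorem lam_vv {l N : ℕ} (q : ZMod N) (B : List Q4) (x : Fin l → ℤ) : lam (vv q B) x = ev q (dq x B) := by
  unfold lam vv dq ev
  push_cast
  rw [Finset.sum_mul, Finset.sum_mul, Finset.sum_mul, ← Finset.sum_add_distrib, ← Finset.sum_add_distrib,
    ← Finset.sum_add_distrib]
  refine Finset.sum_congr rfl fun n _ => ?_
  ring

/-- a conjugate: `c` the images of `x`, `x²`, `x³` -/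
def cj (c : Q4 × Q4 × Q4) (z : Q4) : Q4 :=
  add4 (z.1, 0, 0, 0) (add4 (sm4 z.2.1 c.1) (add4 (sm4 z.2.2.1 c.2.1) (sm4 z.2.2.2 c.2.2)))

/-- the product of the conjugates -/
def cof (P : Q4) (C : List (Q4 × Q4 × Q4)) (z : Q4) : Q4 := C.foldl (fun acc c => mul4 P acc (cj c z)) (1, 0, 0, 0)

/-- the norm is small -/
def okN (m : Q4) : Bool := decide (m.2 = (0, 0, 0)) && [1, 2, 4, 5, 8, 9, 16].contains m.1

/-- a certificate for units -/
def okU (P : Q4) (C : List (Q4 × Q4 × Q4)) (z : Q4) : Bool := okN (mul4 P (cof P C z) z)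

section units

variable {p a : ℕ} [hpp : Fact p.Prime]

theorem not_dvd_small {n : ℤ} (h7 : 7 ≤ p) (h : [1, 2, 4, 5, 8, 9, 16].contains n = true) : ¬ (p : ℤ) ∣ n := by
  have hp := hpp.out
  have key : ∀ m : ℕ, (∀ x ∈ m.primeFactorsList, x < 7) → m ≠ 0 → ¬ (p : ℤ) ∣ (m : ℤ) := by
    intro m hm hm0 hd
    have h1 : p ∣ m := by exact_mod_cast hd
    have h2 := hm p ((Nat.mem_primeFactorsList hm0).2 ⟨hp, h1⟩)
    omega
  have key2 : ∀ L : List ℕ, (∀ x ∈ L, x.Prime ∧ x < 7) → ¬ (p : ℤ) ∣ ((L.prod : ℕ) : ℤ) := by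
    intro L hL hd
    have h1 : p ∣ L.prod := by exact_mod_cast hd
    obtain ⟨x, hx, hxd⟩ := (Prime.dvd_prod_iff (Nat.prime_iff.1 hp)).1 h1
    have h2 := (Nat.prime_dvd_prime_iff_eq hp (hL x hx).1).1 hxd
    have h3 := (hL x hx).2
    omega
  have h2 : n = 1 ∨ n = 2 ∨ n = 4 ∨ n = 5 ∨ n = 8 ∨ n = 9 ∨ n = 16 := by
    simpa using h
  rcases h2 with rfl | rfl | rfl | rfl | rfl | rfl | rfl
  · exact_mod_cast key2 [] (by simp)
  · exact_mod_cast key2 [2] (by norm_num)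
  · exact_mod_cast key2 [2, 2] (by norm_num)
  · exact_mod_cast key2 [5] (by norm_num)
  · exact_mod_cast key2 [2, 2, 2] (by norm_num)
  · exact_mod_cast key2 [3, 3] (by norm_num)
  · exact_mod_cast key2 [2, 2, 2, 2] (by norm_num)

theorem isUnit_of_okU (ha : a ≠ 0) (h7 : 7 ≤ p) {q : ZMod (p ^ a)} {P : Q4} (hq : q ^ 4 = ev q P)
    {C : List (Q4 × Q4 × Q4)} {z : Q4} (h : okU P C z = true) : IsUnit (ev q z) := by
  unfold okU okN at h
  rw [Bool.and_eq_true, decide_eq_true_iff] at h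
  refine isUnit_ev ha hq (u := cof P C z) (C := z) (n := (mul4 P (cof P C z) z).1) ?_ (not_dvd_small h7 h.2)
  exact Prod.ext rfl h.1

end units

section model

variable {D : ChevalleyDatum} {l : ℕ} {M : CoxeterMatrix (Fin l)} {hp : IsType D l M} {p a Q : ℕ} [hpp : Fact p.Prime]
  {g : (Fin l → ℤ) ≃+ (Fin l → ℤ)} {w : M.Group}

/-- eigenvectors -/
theorem vv_mem {N : ℕ} {W : Mat l} (hW : ∀ j, rep M.toCoxeterSystem hp.isCartan w (g (sr j)) = W j) {P : Q4}
    (hq : (Q : ZMod N) ^ 4 = ev (Q : ZMod N) P) {B : List Q4} (hB : EigQ P W (0, 1, 0, 0) B) :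
    (vv (Q : ZMod N) B : Fin l → ZMod N) ∈ Lam hp N Q g w := by
  have h1 := hB.eigOK hq
  rw [ev_x] at h1
  intro x
  have h2 := ext_sr ((lamHom (vv (Q : ZMod N) B)).comp
      ((rep M.toCoxeterSystem hp.isCartan w).toAddMonoidHom.comp g.toAddMonoidHom))
    ((AddMonoidHom.mulLeft (Q : ZMod N)).comp (lamHom (vv (Q : ZMod N) B))) (fun i => by
      show lam (vv (Q : ZMod N) B) (rep M.toCoxeterSystem hp.isCartan w (g (sr i))) =
        (Q : ZMod N) * lam (vv (Q : ZMod N) B) (sr i)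
      rw [hW i, lam_sr]
      exact h1 i) x
  exact h2

/-- the combinations of two vectors -/
def cc {N : ℕ} (q : ZMod N) (V₁ V₂ : List Q4) (z : ZMod N × ZMod N) : Fin l → ZMod N :=
  z.1 • vv q V₁ + z.2 • vv q V₂

theorem lam_cc {N : ℕ} (q : ZMod N) (V₁ V₂ : List Q4) (z : ZMod N × ZMod N) (x : Fin l → ℤ) :
    lam (cc q V₁ V₂ z) x = z.1 * ev q (dq x V₁) + z.2 * ev q (dq x V₂) := by
  unfold cc
  rw [lam_add', lam_smul', lam_smul', lam_vv, lam_vv]

/-- the data of a rank two eigenspace -/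
structure Two (hp : IsType D l M) (g : (Fin l → ℤ) ≃+ (Fin l → ℤ)) (w : M.Group) (P : Q4) (V₁ V₂ : List Q4)
    (s₁ s₂ : Fin D.nroots) : Prop where
  W : ∃ W : Mat l, (∀ j, rep M.toCoxeterSystem hp.isCartan w (g (sr j)) = W j) ∧ EigQ P W (0, 1, 0, 0) V₁ ∧
    EigQ P W (0, 1, 0, 0) V₂
  h11 : dq (vec D l s₁) V₁ = (1, 0, 0, 0)
  h12 : dq (vec D l s₁) V₂ = (0, 0, 0, 0)
  h21 : dq (vec D l s₂) V₁ = (0, 0, 0, 0)
  h22 : dq (vec D l s₂) V₂ = (1, 0, 0, 0)

variable {P : Q4} {V₁ V₂ : List Q4} {s₁ s₂ : Fin D.nroots} (T : Two hp g w P V₁ V₂ s₁ s₂)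

include T in
theorem Two.cc_mem {N : ℕ} (hq : (Q : ZMod N) ^ 4 = ev (Q : ZMod N) P) (z : ZMod N × ZMod N) :
    cc (Q : ZMod N) V₁ V₂ z ∈ Lam hp N Q g w := by
  obtain ⟨W, hW, h1, h2⟩ := T.W
  exact Lam.add hp (Lam.smul hp _ (vv_mem hW hq h1)) (Lam.smul hp _ (vv_mem hW hq h2))

include T in
theorem Two.cc_s1 {N : ℕ} (q : ZMod N) (z : ZMod N × ZMod N) : lam (cc q V₁ V₂ z) (vec D l s₁) = z.1 := by
  rw [lam_cc, T.h11, T.h12, ev_one, ev_zero]
  ring

include T in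
theorem Two.cc_s2 {N : ℕ} (q : ZMod N) (z : ZMod N × ZMod N) : lam (cc q V₁ V₂ z) (vec D l s₂) = z.2 := by
  rw [lam_cc, T.h21, T.h22, ev_one, ev_zero]
  ring

include T in
theorem Two.cc_inj {N : ℕ} (q : ZMod N) : Function.Injective (cc q V₁ V₂ : ZMod N × ZMod N → Fin l → ZMod N) := by
  intro z z' h
  refine Prod.ext ?_ ?_
  · rw [← T.cc_s1 q z, h, T.cc_s1]
  · rw [← T.cc_s2 q z, h, T.cc_s2]

include T in
theorem Two.le_card_Lam (hq : (Q : ZMod (p ^ a)) ^ 4 = ev (Q : ZMod (p ^ a)) P) :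
    p ^ (2 * a) ≤ Nat.card ↥(Lam hp (p ^ a) Q g w) := by
  have hNz : NeZero (p ^ a) := ⟨pow_ne_zero _ hpp.out.ne_zero⟩
  have h1 := Nat.card_le_card_of_injective (fun z : ZMod (p ^ a) × ZMod (p ^ a) =>
    (⟨cc (Q : ZMod (p ^ a)) V₁ V₂ z, T.cc_mem hq z⟩ : ↥(Lam hp (p ^ a) Q g w))) (fun z z' h =>
      T.cc_inj _ (congrArg Subtype.val h))
  rw [Nat.card_prod, Nat.card_eq_fintype_card, ZMod.card] at h1
  calc p ^ (2 * a) = p ^ a * p ^ a := by rw [← pow_add]; congr 1; ring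
    _ ≤ _ := h1

include T in
/-- the elements of the eigenspace are determined by their values on the two roots -/
theorem Two.ext (hq : (Q : ZMod (p ^ a)) ^ 4 = ev (Q : ZMod (p ^ a)) P)
    (hL : Nat.card ↥(Lam hp (p ^ a) Q g w) = p ^ (2 * a)) {c c' : Fin l → ZMod (p ^ a)}
    (hc : c ∈ Lam hp (p ^ a) Q g w) (hc' : c' ∈ Lam hp (p ^ a) Q g w)
    (h1 : lam c (vec D l s₁) = lam c' (vec D l s₁)) (h2 : lam c (vec D l s₂) = lam c' (vec D l s₂)) : c = c' := by
  classical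
  have hNz : NeZero (p ^ a) := ⟨pow_ne_zero _ hpp.out.ne_zero⟩
  let F : ZMod (p ^ a) × ZMod (p ^ a) → ↥(Lam hp (p ^ a) Q g w) := fun z =>
    ⟨cc (Q : ZMod (p ^ a)) V₁ V₂ z, T.cc_mem hq z⟩
  have hF : Function.Injective F := fun z z' h => T.cc_inj _ (congrArg Subtype.val h)
  have hFs : Function.Surjective F := by
    have hbij := (Nat.bijective_iff_injective_and_card F).2 ⟨hF, by
      rw [hL, Nat.card_prod, Nat.card_eq_fintype_card, ZMod.card, ← pow_add]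
      congr 1
      ring⟩
    exact hbij.2
  obtain ⟨z, hz⟩ := hFs ⟨c, hc⟩
  obtain ⟨z', hz'⟩ := hFs ⟨c', hc'⟩
  have e1 : cc (Q : ZMod (p ^ a)) V₁ V₂ z = c := congrArg Subtype.val hz
  have e2 : cc (Q : ZMod (p ^ a)) V₁ V₂ z' = c' := congrArg Subtype.val hz'
  rw [← e1, ← e2]
  congr 1
  refine Prod.ext ?_ ?_
  · rw [← T.cc_s1 (Q : ZMod (p ^ a)) z, e1, h1, ← e2, T.cc_s1]
  · rw [← T.cc_s2 (Q : ZMod (p ^ a)) z, e1, h2, ← e2, T.cc_s2]

/-- the solutions of a linear equation with one unit coefficient -/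
theorem card_sol {N : ℕ} [NeZero N] {α β : ZMod N} (h : IsUnit α ∨ IsUnit β) :
    (Finset.univ.filter fun z : ZMod N × ZMod N => z.1 * α + z.2 * β = 0).card ≤ N := by
  classical
  conv_rhs => rw [← ZMod.card N, ← Finset.card_univ]
  rcases h with h | h
  · refine Finset.card_le_card_of_injOn (fun z => z.2) (fun _ _ => Finset.mem_coe.2 (Finset.mem_univ _)) ?_
    intro z hz z' hz' e
    rw [Finset.mem_coe, Finset.mem_filter] at hz hz'
    have e' : z.2 = z'.2 := e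
    refine Prod.ext ?_ e'
    apply h.mul_left_injective
    have h1 := hz.2
    have h2 := hz'.2
    show z.1 * α = z'.1 * α
    rw [e'] at h1
    linear_combination h1 - h2
  · refine Finset.card_le_card_of_injOn (fun z => z.1) (fun _ _ => Finset.mem_coe.2 (Finset.mem_univ _)) ?_
    intro z hz z' hz' e
    rw [Finset.mem_coe, Finset.mem_filter] at hz hz'
    have e' : z.1 = z'.1 := e
    refine Prod.ext e' ?_
    apply h.mul_left_injective
    have h1 := hz.2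
    have h2 := hz'.2
    show z.2 * β = z'.2 * β
    rw [e'] at h1
    linear_combination h1 - h2

include T in
/-- **The number of regular elements.** -/
theorem Two.card_reg (ha : a ≠ 0) (h7 : 7 ≤ p) (hq : (Q : ZMod (p ^ a)) ^ 4 = ev (Q : ZMod (p ^ a)) P)
    {C : List (Q4 × Q4 × Q4)} (R : List (Q4 × Q4))
    (hR : ∀ s : Fin D.nroots, (okU P C (dq (vec D l s) V₁) = true ∨ okU P C (dq (vec D l s) V₂) = true) ∧
      ∃ ρ ∈ R, mul4 P (dq (vec D l s) V₁) ρ.2 = mul4 P (dq (vec D l s) V₂) ρ.1)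
    (hRu : ∀ ρ ∈ R, okU P C ρ.1 = true ∨ okU P C ρ.2 = true) :
    p ^ (2 * a) ≤ Nat.card ↥(LamReg hp (p ^ a) Q g w) + R.length * p ^ a := by
  classical
  have hNz : NeZero (p ^ a) := ⟨pow_ne_zero _ hpp.out.ne_zero⟩
  set q : ZMod (p ^ a) := (Q : ZMod (p ^ a)) with hqdef
  let Bad : Finset (ZMod (p ^ a) × ZMod (p ^ a)) := R.toFinset.biUnion fun ρ =>
    Finset.univ.filter fun z : ZMod (p ^ a) × ZMod (p ^ a) => z.1 * ev q ρ.1 + z.2 * ev q ρ.2 = 0
  have hBad : Bad.card ≤ R.length * p ^ a := by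
    refine (Finset.card_biUnion_le).trans ?_
    calc ∑ ρ ∈ R.toFinset, _ ≤ ∑ _ρ ∈ R.toFinset, p ^ a := Finset.sum_le_sum fun ρ hρ =>
          card_sol (by
            rcases hRu ρ (List.mem_toFinset.1 hρ) with h | h
            · exact Or.inl (isUnit_of_okU ha h7 hq h)
            · exact Or.inr (isUnit_of_okU ha h7 hq h))
      _ = R.toFinset.card * p ^ a := by rw [Finset.sum_const, smul_eq_mul]
      _ ≤ R.length * p ^ a := Nat.mul_le_mul_right _ (List.toFinset_card_le R)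
  have hreg : ∀ z ∉ Bad, cc q V₁ V₂ z ∈ LamReg hp (p ^ a) Q g w := by
    intro z hz
    refine ⟨T.cc_mem hq z, fun s hs => hz ?_⟩
    rw [lam_cc] at hs
    obtain ⟨h1, ρ, hρ, h2⟩ := hR s
    have h3 := congrArg (ev q) h2
    rw [ev_mul hq, ev_mul hq] at h3
    refine Finset.mem_biUnion.2 ⟨ρ, List.mem_toFinset.2 hρ, Finset.mem_filter.2 ⟨Finset.mem_univ _, ?_⟩⟩
    rcases h1 with h1 | h1
    · apply (isUnit_of_okU ha h7 hq h1).mul_left_cancel
      rw [mul_zero]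
      linear_combination ev q ρ.1 * hs + z.2 * h3
    · apply (isUnit_of_okU ha h7 hq h1).mul_left_cancel
      rw [mul_zero]
      linear_combination ev q ρ.2 * hs - z.1 * h3
  have h1 : Badᶜ.card ≤ Nat.card ↥(LamReg hp (p ^ a) Q g w) := by
    have h3 := Nat.card_le_card_of_injective (fun z : ↥(Badᶜ : Finset (ZMod (p ^ a) × ZMod (p ^ a))) =>
      (⟨cc q V₁ V₂ z.1, hreg z.1 (Finset.mem_compl.1 z.2)⟩ : ↥(LamReg hp (p ^ a) Q g w))) (fun z z' h =>
        Subtype.ext (T.cc_inj _ (congrArg Subtype.val h)))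
    rwa [Nat.card_eq_fintype_card (α := ↥(Badᶜ : Finset (ZMod (p ^ a) × ZMod (p ^ a)))), Fintype.card_coe] at h3
  have h2 : Bad.card + Badᶜ.card = p ^ (2 * a) := by
    rw [Finset.card_add_card_compl, Fintype.card_prod, ZMod.card, ← pow_add]
    congr 1
    ring
  omega

/-! ### the elements of the Weyl group which commute with `θ` -/

/-- the bilinear form of a matrix -/
def bil (B : Mat l) (x y : Fin l → ℤ) : ℤ := ∑ i, x i * ∑ m, B i m * y m

theorem bil_add_left (B : Mat l) (x x' y : Fin l → ℤ) : bil B (x + x') y = bil B x y + bil B x' y := by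
  unfold bil
  rw [← Finset.sum_add_distrib]
  exact Finset.sum_congr rfl fun i _ => by rw [Pi.add_apply, add_mul]

theorem bil_add_right (B : Mat l) (x y y' : Fin l → ℤ) : bil B x (y + y') = bil B x y + bil B x y' := by
  unfold bil
  rw [← Finset.sum_add_distrib]
  refine Finset.sum_congr rfl fun i _ => ?_
  rw [← mul_add, ← Finset.sum_add_distrib]
  congr 1
  exact Finset.sum_congr rfl fun m _ => by rw [Pi.add_apply, mul_add]

/-- `bil B x` as an additive map -/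
def bilHom (B : Mat l) (x : Fin l → ℤ) : (Fin l → ℤ) →+ ℤ where
  toFun := bil B x
  map_zero' := by
    unfold bil
    simp
  map_add' := bil_add_right B x

theorem bil_sr (B : Mat l) (x : Fin l → ℤ) (m : Fin l) : bil B x (sr m) = ∑ i, x i * B i m := by
  unfold bil
  refine Finset.sum_congr rfl fun i _ => ?_
  rw [Finset.sum_eq_single m]
  · rw [sr_self, mul_one]
  · intro j _ hj
    rw [sr_ne hj, mul_zero]
  · intro h
    exact absurd (Finset.mem_univ m) h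

/-- shifting by `θ` -/
theorem bil_theta {W : Mat l} (hW : ∀ j, rep M.toCoxeterSystem hp.isCartan w (g (sr j)) = W j) {B B' : Mat l}
    (hB : ∀ i m, B' i m = ∑ j, B i j * W m j) (x y : Fin l → ℤ) :
    bil B' x y = bil B x (rep M.toCoxeterSystem hp.isCartan w (g y)) := by
  have h1 := ext_sr (bilHom B' x) ((bilHom B x).comp
      ((rep M.toCoxeterSystem hp.isCartan w).toAddMonoidHom.comp g.toAddMonoidHom)) (fun m => by
    show bil B' x (sr m) = bil B x (rep M.toCoxeterSystem hp.isCartan w (g (sr m)))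
    rw [hW, bil_sr]
    unfold bil
    refine Finset.sum_congr rfl fun i _ => ?_
    rw [hB]) y
  exact h1

/-- the invariance -/
theorem bil_inv {W : Mat l} (hW : ∀ j, rep M.toCoxeterSystem hp.isCartan w (g (sr j)) = W j) {B : Fin 4 → Mat l}
    (h0 : ∀ (v : M.Group) (x y : Fin l → ℤ), bil (B 0) (rep M.toCoxeterSystem hp.isCartan v x)
      (rep M.toCoxeterSystem hp.isCartan v y) = bil (B 0) x y)
    (hB : ∀ (k : Fin 3) (i m : Fin l), B k.succ i m = ∑ j, B k.castSucc i j * W m j) (k : Fin 4) {v : M.Group}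
    (hv : v ∈ Cth hp g w) (x y : Fin l → ℤ) : bil (B k) (rep M.toCoxeterSystem hp.isCartan v x)
      (rep M.toCoxeterSystem hp.isCartan v y) = bil (B k) x y := by
  induction k using Fin.induction generalizing x y with
  | zero => exact h0 v x y
  | succ k ih => rw [bil_theta (hp := hp) hW (hB k), bil_theta (hp := hp) hW (hB k), ← hv y, ih]

theorem Cth_mul {v v' : M.Group} (hv : v ∈ Cth hp g w) (hv' : v' ∈ Cth hp g w) : v * v' ∈ Cth hp g w := by
  intro x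
  rw [rep_mul_apply, hv' x, hv, rep_mul_apply]

theorem Cth_inv {v : M.Group} (hv : v ∈ Cth hp g w) : v⁻¹ ∈ Cth hp g w := by
  intro x
  have h1 := hv (rep M.toCoxeterSystem hp.isCartan v⁻¹ x)
  rw [rep_apply_inv] at h1
  rw [← h1, rep_inv_apply]

variable {G : Type v} [Group G] {X : (Fin l → ZMod (p ^ a)) → G} (H : ModelN hp (p ^ a) Q g w X)

include T H in
/-- an element of the Weyl group which commutes with `θ` and fixes two roots which determine the eigenspace -/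
theorem Two.eq_one (hq : (Q : ZMod (p ^ a)) ^ 4 = ev (Q : ZMod (p ^ a)) P)
    (hL : Nat.card ↥(Lam hp (p ^ a) Q g w) = p ^ (2 * a)) (hreg : (LamReg hp (p ^ a) Q g w).Nonempty) {v : M.Group}
    (hv : v ∈ Cth hp g w) (h1 : rep M.toCoxeterSystem hp.isCartan v (vec D l s₁) = vec D l s₁)
    (h2 : rep M.toCoxeterSystem hp.isCartan v (vec D l s₂) = vec D l s₂) : v = 1 := by
  obtain ⟨c₀, hc₀, hr⟩ := hreg
  let c₁ : Fin l → ZMod (p ^ a) := fun n => lam c₀ (rep M.toCoxeterSystem hp.isCartan v (sr n))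
  have hc₁ : ∀ x, lam c₁ x = lam c₀ (rep M.toCoxeterSystem hp.isCartan v x) := by
    intro x
    exact ext_sr (lamHom c₁) ((lamHom c₀).comp (rep M.toCoxeterSystem hp.isCartan v).toAddMonoidHom) (fun n => by
      show lam c₁ (sr n) = lam c₀ (rep M.toCoxeterSystem hp.isCartan v (sr n))
      rw [lam_sr]) x
  have hm : c₁ ∈ Lam hp (p ^ a) Q g w := by
    intro x
    rw [hc₁, hc₁, hv x, hc₀]
  have h3 : c₁ = c₀ := T.ext hq hL hm hc₀ (by rw [hc₁, h1]) (by rw [hc₁, h2])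
  refine H.reg v c₀ hr fun x => ?_
  rw [← hc₁, h3]

include T H in
/-- **The number of the elements which commute with `θ`.** -/
theorem Two.card_Cth_le (hq : (Q : ZMod (p ^ a)) ^ 4 = ev (Q : ZMod (p ^ a)) P)
    (hL : Nat.card ↥(Lam hp (p ^ a) Q g w) = p ^ (2 * a)) (hreg : (LamReg hp (p ^ a) Q g w).Nonempty)
    {W : Mat l} (hW : ∀ j, rep M.toCoxeterSystem hp.isCartan w (g (sr j)) = W j) {B : Fin 4 → Mat l}
    (h0 : ∀ (v : M.Group) (x y : Fin l → ℤ), bil (B 0) (rep M.toCoxeterSystem hp.isCartan v x)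
      (rep M.toCoxeterSystem hp.isCartan v y) = bil (B 0) x y)
    (hB : ∀ (k : Fin 3) (i m : Fin l), B k.succ i m = ∑ j, B k.castSucc i j * W m j) {n₁ n₂ : ℕ}
    (hn1 : (Finset.univ.filter fun s : Fin D.nroots => ∀ k : Fin 4, bil (B k) (vec D l s) (vec D l s) =
      bil (B k) (vec D l s₁) (vec D l s₁)).card ≤ n₁)
    (hn2 : (Finset.univ.filter fun s : Fin D.nroots => ∀ k : Fin 4, bil (B k) (vec D l s) (vec D l s) =
      bil (B k) (vec D l s₂) (vec D l s₂) ∧ bil (B k) (vec D l s) (vec D l s₁) =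
      bil (B k) (vec D l s₂) (vec D l s₁)).card ≤ n₂) :
    Nat.card ↥(Cth hp g w) ≤ n₁ * n₂ := by
  classical
  have hWf := finite_W hp M.toCoxeterSystem
  choose π hπ using fun v : M.Group => exists_perm hp v
  set S₁ := Finset.univ.filter fun s : Fin D.nroots => ∀ k : Fin 4, bil (B k) (vec D l s) (vec D l s) =
      bil (B k) (vec D l s₁) (vec D l s₁) with hS1
  set S₂ := Finset.univ.filter fun s : Fin D.nroots => ∀ k : Fin 4, bil (B k) (vec D l s) (vec D l s) =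
      bil (B k) (vec D l s₂) (vec D l s₂) ∧ bil (B k) (vec D l s) (vec D l s₁) =
      bil (B k) (vec D l s₂) (vec D l s₁) with hS2
  have hinv := fun k v (hv : v ∈ Cth hp g w) x y => bil_inv hW h0 hB k (v := v) hv x y
  have m1 : ∀ v ∈ Cth hp g w, π v s₁ ∈ S₁ := by
    intro v hv
    rw [hS1, Finset.mem_filter]
    refine ⟨Finset.mem_univ _, fun k => ?_⟩
    rw [hπ, hinv k v hv]
  -- representatives
  have hu : ∀ s : Fin D.nroots, ∃ u : M.Group, (∃ v ∈ Cth hp g w, π v s₁ = s) → u ∈ Cth hp g w ∧ π u s₁ = s := by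
    intro s
    by_cases h : ∃ v ∈ Cth hp g w, π v s₁ = s
    · obtain ⟨v, hv, e⟩ := h
      exact ⟨v, fun _ => ⟨hv, e⟩⟩
    · exact ⟨1, fun h' => absurd h' h⟩
  choose u hu using hu
  have hu' : ∀ v ∈ Cth hp g w, u (π v s₁) ∈ Cth hp g w ∧ π (u (π v s₁)) s₁ = π v s₁ := fun v hv =>
    hu _ ⟨v, hv, rfl⟩
  have hfix : ∀ v ∈ Cth hp g w, rep M.toCoxeterSystem hp.isCartan ((u (π v s₁))⁻¹ * v) (vec D l s₁) = vec D l s₁ := by
    intro v hv
    rw [rep_mul_apply, ← hπ, ← (hu' v hv).2, hπ, (hu' v hv).2, rep_inv_apply]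
  have m2 : ∀ v ∈ Cth hp g w, π ((u (π v s₁))⁻¹ * v) s₂ ∈ S₂ := by
    intro v hv
    have hm := Cth_mul (Cth_inv (hu' v hv).1) hv
    rw [hS2, Finset.mem_filter]
    refine ⟨Finset.mem_univ _, fun k => ⟨?_, ?_⟩⟩
    · rw [hπ, hinv k _ hm]
    · rw [hπ]
      conv_lhs => rw [← hfix v hv]
      rw [hinv k _ hm]
  have key := Nat.card_le_card_of_injective (fun v : ↥(Cth hp g w) =>
    ((⟨π v.1 s₁, m1 v.1 v.2⟩, ⟨π ((u (π v.1 s₁))⁻¹ * v.1) s₂, m2 v.1 v.2⟩) : ↥S₁ × ↥S₂)) (by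
    rintro ⟨v, hv⟩ ⟨v', hv'⟩ h
    have e1 : π v s₁ = π v' s₁ := congrArg (fun z : ↥S₁ × ↥S₂ => z.1.1) h
    have e2 : π ((u (π v s₁))⁻¹ * v) s₂ = π ((u (π v' s₁))⁻¹ * v') s₂ := congrArg (fun z : ↥S₁ × ↥S₂ => z.2.1) h
    rw [← e1] at e2
    have f1 := hfix v hv
    have f2 := hfix v' hv'
    rw [← e1] at f2
    have h3 := congrArg (vec D l) (congrArg Fin.val e2)
    rw [hπ, hπ] at h3
    apply Subtype.ext
    show v = v'
    have h4 : v⁻¹ * v' = 1 := by
      refine T.eq_one H hq hL hreg (Cth_mul (Cth_inv hv) hv') ?_ ?_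
      · have h5 : v⁻¹ * v' = ((u (π v s₁))⁻¹ * v)⁻¹ * ((u (π v s₁))⁻¹ * v') := by group
        rw [h5, rep_mul_apply, f2]
        conv_lhs => rw [← f1]
        rw [rep_inv_apply]
      · have h5 : v⁻¹ * v' = ((u (π v s₁))⁻¹ * v)⁻¹ * ((u (π v s₁))⁻¹ * v') := by group
        rw [h5, rep_mul_apply, ← h3, rep_inv_apply]
    exact (inv_mul_eq_one.1 h4))
  rw [Nat.card_prod, Nat.card_eq_fintype_card (α := ↥S₁), Nat.card_eq_fintype_card (α := ↥S₂), Fintype.card_coe,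
    Fintype.card_coe] at key
  exact key.trans (Nat.mul_le_mul hn1 hn2)

end model

end Cfsg.Agent.H208.XR
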